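import Cfsg.Agent.Lib.CT.Orthogonality
import Cfsg.Prelude.Def_Blocks
import Mathlib.GroupTheory.Sylow
import Mathlib.GroupTheory.Perm.Cycle.Type
import Mathlib.Algebra.MonoidAlgebra.Basic
import Mathlib.RingTheory.IntegralClosure.IntegrallyClosed
import Mathlib.RingTheory.Polynomial.RationalRoot
import Mathlib.RingTheory.PrincipalIdealDomain

/-!
# Class sums and defect zero characters

`omega χ f` is the scalar by which the weighted group sum `∑ f g • g` acts in an irreducible
representation affording `χ`.  The two weights "number of square roots of one" and "is a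
p-element" detect characters of p-defect zero modulo a maximal ideal above p.
-/

namespace Cfsg.Agent.ClassSum

open scoped ComplexConjugate
open Representation Module Cfsg.Agent

universe u

variable {G : Type u} [Group G] [Fintype G]

/-- The scalar of the weighted sum with weights `f`. -/
noncomputable def omega (χ : G → ℂ) (f : G → ℤ) : ℂ :=
  (∑ g, (f g : ℂ) * χ g) / χ 1

/-- The indicator function of the conjugacy class of `x`. -/
noncomputable def classInd (x : G) : G → ℤ := by
  classical exact fun g => if IsConj x g then 1 else 0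

/-- Integer weights which are class functions. -/
def IsClassWeight (f : G → ℤ) : Prop := ∀ g h : G, f (h * g * h⁻¹) = f g

omit [Fintype G] in
theorem classInd_pos {x g : G} (h : IsConj x g) : classInd x g = 1 := if_pos h

omit [Fintype G] in
theorem classInd_neg {x g : G} (h : ¬ IsConj x g) : classInd x g = 0 := if_neg h

omit [Fintype G] in
theorem classInd_isClassWeight (x : G) : IsClassWeight (classInd x) := by
  classical
  intro g h
  unfold classInd
  have hxy : IsConj g (h * g * h⁻¹) := isConj_iff.mpr ⟨h, rfl⟩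
  exact if_congr ⟨fun a => a.trans hxy.symm, fun a => a.trans hxy⟩ rfl rfl

theorem sum_smul_commute {V : Type} [AddCommGroup V] [Module ℂ V]
    (ρ : Representation ℂ G V) {f : G → ℤ} (hf : IsClassWeight f) (h : G) :
    (∑ g, (f g : ℂ) • ρ g) * ρ h = ρ h * (∑ g, (f g : ℂ) • ρ g) := by
  rw [Finset.sum_mul, Finset.mul_sum]
  refine (Fintype.sum_equiv (MulAut.conj h).toEquiv _ _ fun g => ?_).symm
  simp only [MulEquiv.toEquiv_eq_coe, MulEquiv.coe_toEquiv, MulAut.conj_apply,
    mul_smul_comm, smul_mul_assoc, ← map_mul, hf g h]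
  simp [mul_assoc]

theorem sum_smul_eq_scalar {χ : G → ℂ} {n : ℕ} (ρ : Representation ℂ G (Fin n → ℂ))
    (hρ : ρ.IsIrreducible) (hχ : ρ.character = χ) {f : G → ℤ} (hf : IsClassWeight f) :
    (∑ g, (f g : ℂ) • ρ g) = omega χ f • LinearMap.id := by
  subst hχ
  conv_lhs => rw [CT.eq_scalar_of_commute ρ _ (sum_smul_commute ρ hf)]
  simp [omega, Representation.character, map_sum]

/-- Multiplying a character value by `omega`. -/
theorem char_mul_omega {χ : G → ℂ} (hχ : IsIrrCharacter G χ) {f : G → ℤ} (hf : IsClassWeight f)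
    (y : G) : χ y * omega χ f = ∑ g, (f g : ℂ) * χ (y * g) := by
  obtain ⟨n, ρ, hρ, e⟩ := hχ
  have h := congrArg (fun T => LinearMap.trace ℂ (Fin n → ℂ) (ρ y * T))
    (sum_smul_eq_scalar ρ hρ e hf)
  simp only [Finset.mul_sum, mul_smul_comm, map_sum, map_smul, ← map_mul, smul_eq_mul] at h
  subst e
  rw [mul_comm]
  refine Eq.trans ?_ h.symm
  simp [Representation.character, Module.End.mul_eq_comp]

theorem omega_isIntegral {χ : G → ℂ} (hχ : IsIrrCharacter G χ) {f : G → ℤ}
    (hf : IsClassWeight f) : IsIntegral ℤ (omega χ f) := by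
  obtain ⟨n, ρ, hρ, e⟩ := hχ
  haveI : Nontrivial (Fin n → ℂ) := ((CT.isIrreducible_iff ρ).mp hρ).1
  let L : MonoidAlgebra ℤ G →ₐ[ℤ] Module.End ℂ (Fin n → ℂ) :=
    MonoidAlgebra.lift ℤ (Module.End ℂ (Fin n → ℂ)) G ρ
  let x : MonoidAlgebra ℤ G := ∑ g, f g • MonoidAlgebra.of ℤ G g
  have hL : L x = algebraMap ℂ (Module.End ℂ (Fin n → ℂ)) (omega χ f) := by
    have h1 : L x = ∑ g, (f g : ℂ) • ρ g := by
      simp only [x, L, map_sum, map_zsmul, MonoidAlgebra.lift_of]
      exact Finset.sum_congr rfl fun g _ => (Int.cast_smul_eq_zsmul ℂ (f g) (ρ g)).symm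
    rw [h1, sum_smul_eq_scalar ρ hρ e hf, Algebra.algebraMap_eq_smul_one, Module.End.one_eq_id]
  haveI : Module.Finite ℤ (MonoidAlgebra ℤ G) := inferInstance
  have hx : IsIntegral ℤ (L x) := (IsIntegral.of_finite ℤ x).map L
  rw [hL] at hx
  exact (isIntegral_algebraMap_iff
    (FaithfulSMul.algebraMap_injective ℂ (Module.End ℂ (Fin n → ℂ)))).mp hx

theorem eq_natCast_div_mem {c N : ℕ} (hc : 0 < c) (h : IsIntegral ℤ ((N : ℂ) / c)) : c ∣ N := by
  have h1 : IsIntegral ℤ ((N : ℚ) / c) := by
    refine (isIntegral_algHom_iff ((algebraMap ℚ ℂ).toIntAlgHom)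
      (algebraMap ℚ ℂ).injective).mp ?_
    simpa using h
  obtain ⟨z, hz⟩ := IsIntegrallyClosed.isIntegral_iff.mp h1
  simp only [algebraMap_int_eq, eq_intCast] at hz
  have hc' : (c : ℚ) ≠ 0 := Nat.cast_ne_zero.mpr hc.ne'
  rw [eq_div_iff hc'] at hz
  have : (c : ℤ) ∣ (N : ℤ) := ⟨z, by exact_mod_cast (by rw [mul_comm]; exact hz.symm : (N : ℚ) = c * z)⟩
  exact_mod_cast this

/-- Class decomposition of `omega`. -/
theorem omega_eq_sum_classes [DecidableEq (ConjClasses G)] [Fintype (ConjClasses G)]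
    {χ : G → ℂ} {f : G → ℤ} (hf : IsClassWeight f)
    (rep : ConjClasses G → G) (hrep : ∀ C, ConjClasses.mk (rep C) = C) :
    omega χ f = ∑ C, (f (rep C) : ℂ) * omega χ (classInd (rep C)) := by
  classical
  have hconst : ∀ {a b : G}, IsConj a b → f b = f a := by
    intro a b h
    obtain ⟨c, rfl⟩ := isConj_iff.mp h
    exact hf a c
  simp only [omega, ← mul_div_assoc, ← Finset.sum_div]
  congr 1
  rw [← Finset.sum_fiberwise Finset.univ (ConjClasses.mk (α := G))]
  refine Finset.sum_congr rfl fun C _ => ?_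
  rw [Finset.mul_sum, Finset.sum_filter]
  refine Finset.sum_congr rfl fun g _ => ?_
  by_cases hg : IsConj (rep C) g
  · have : ConjClasses.mk g = C := (hrep C) ▸ (ConjClasses.mk_eq_mk_iff_isConj.mpr hg).symm
    rw [if_pos this, classInd_pos hg, hconst hg]
    simp
  · have : ConjClasses.mk g ≠ C := fun e =>
      hg (ConjClasses.mk_eq_mk_iff_isConj.mp (e.trans (hrep C).symm)).symm
    rw [if_neg this, classInd_neg hg]
    simp

theorem omega_classInd (χ : G → ℂ) (hχ : IsClassFunction G χ) (x : G) :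
    omega χ (classInd x) = (Nat.card {g : G // IsConj x g} : ℂ) * χ x / χ 1 := by
  classical
  simp only [omega]
  congr 1
  rw [Nat.card_eq_fintype_card, Fintype.card_subtype, Finset.card_filter, Nat.cast_sum,
    Finset.sum_mul]
  refine Finset.sum_congr rfl fun g _ => ?_
  by_cases hg : IsConj x g
  · rw [classInd_pos hg, if_pos hg, CT.isClassFunction_isConj hχ hg]
    simp
  · rw [classInd_neg hg, if_neg hg]
    simp

theorem degree_dvd_card (χ : IrrCharacter G) : CT.deg (χ : G → ℂ) ∣ Nat.card G := by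
  classical
  haveI : Finite (ConjClasses G) := Finite.of_surjective _ ConjClasses.mk_surjective
  haveI := Fintype.ofFinite (ConjClasses G)
  choose rep hrep using fun C : ConjClasses G => ConjClasses.exists_rep C
  refine eq_natCast_div_mem (CT.deg_pos χ.2) ?_
  have h1 := CT.irr_inner_self χ.2
  rw [classInner, inv_mul_eq_one₀ CT.card_ne_zero] at h1
  rw [h1, ← CT.deg_eq (CT.isCharacter_of_isIrr χ.2),
    ← Finset.sum_fiberwise Finset.univ (ConjClasses.mk (α := G)), Finset.sum_div]
  refine IsIntegral.sum _ fun C _ => ?_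
  have : (∑ g ∈ Finset.univ.filter (fun g => ConjClasses.mk g = C),
      (χ : G → ℂ) g * conj ((χ : G → ℂ) g)) / (χ : G → ℂ) 1 =
      omega (χ : G → ℂ) (classInd (rep C)) * conj ((χ : G → ℂ) (rep C)) := by
    rw [omega, div_mul_eq_mul_div, Finset.sum_mul, Finset.sum_filter]
    congr 1
    refine Finset.sum_congr rfl fun g _ => ?_
    have hiff : ConjClasses.mk g = C ↔ IsConj (rep C) g := by
      conv_lhs => rw [← hrep C]
      exact ConjClasses.mk_eq_mk_iff_isConj.trans ⟨IsConj.symm, IsConj.symm⟩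
    by_cases hg : IsConj (rep C) g
    · rw [classInd_pos hg, if_pos (hiff.mpr hg),
        CT.isClassFunction_isConj (CT.isClassFunction_of_isIrr χ.2) hg]
      simp
    · rw [classInd_neg hg, if_neg (mt hiff.mp hg)]
      simp
  rw [this, ← CT.char_inv_eq_conj (CT.isCharacter_of_isIrr χ.2)]
  exact (omega_isIntegral χ.2 (classInd_isClassWeight _)).mul
    (CT.isIntegral_isCharacter (CT.isCharacter_of_isIrr χ.2) _)

section Residue

variable {p : ℕ} {M : Ideal AlgInt}

theorem exists_modular (p : ℕ) (hp : p.Prime) : ∃ M : Ideal AlgInt, IsPModular p M := by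
  have hne : Ideal.span {(p : AlgInt)} ≠ ⊤ := by
    rw [Ne, Ideal.span_singleton_eq_top]
    rintro ⟨u, hu⟩
    have h := congrArg (Subtype.val : AlgInt → ℂ) (Units.mul_inv u)
    rw [hu] at h
    simp only [MulMemClass.coe_mul, OneMemClass.coe_one] at h
    have hint : IsIntegral ℤ ((1 : ℕ) / (p : ℂ) : ℂ) := by
      have hp0 : (p : ℂ) ≠ 0 := Nat.cast_ne_zero.mpr hp.ne_zero
      have : ((1 : ℕ) / (p : ℂ) : ℂ) = ((↑u⁻¹ : AlgInt) : ℂ) := by
        rw [div_eq_iff hp0, mul_comm]
        simpa using h.symm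
      rw [this]
      exact (↑u⁻¹ : AlgInt).2
    exact hp.ne_one (Nat.dvd_one.mp (eq_natCast_div_mem hp.pos hint))
  obtain ⟨M, hM, hle⟩ := Ideal.exists_le_maximal _ hne
  exact ⟨M, hp, hM, hle (Ideal.subset_span rfl)⟩

theorem natCast_mem_iff (hM : IsPModular p M) (n : ℕ) : (n : AlgInt) ∈ M ↔ p ∣ n := by
  refine ⟨fun h => ?_, fun ⟨k, hk⟩ => by rw [hk, Nat.cast_mul]; exact M.mul_mem_right _ hM.2.2⟩
  by_contra hn
  have hco : Nat.Coprime p n := hM.1.coprime_iff_not_dvd.mpr hn
  obtain ⟨a, b, hab⟩ := Nat.isCoprime_iff_coprime.mpr hco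
  refine hM.2.1.ne_top (M.eq_top_iff_one.mpr ?_)
  have : (1 : AlgInt) = (a : AlgInt) * (p : AlgInt) + (b : AlgInt) * (n : AlgInt) := by
    have := congrArg (Int.cast : ℤ → AlgInt) hab
    push_cast at this
    exact this.symm
  rw [this]
  exact M.add_mem (M.mul_mem_left _ hM.2.2) (M.mul_mem_left _ h)

theorem intCast_mem (hM : IsPModular p M) {n : ℤ} (h : (p : ℤ) ∣ n) : (n : AlgInt) ∈ M := by
  obtain ⟨k, rfl⟩ := h
  push_cast
  exact M.mul_mem_right _ hM.2.2

/-- A complex number is an algebraic integer lying in `M`. -/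
def InM (M : Ideal AlgInt) (z : ℂ) : Prop := ∃ a ∈ M, (a : ℂ) = z

theorem inM_zero : InM M 0 := ⟨0, M.zero_mem, rfl⟩

theorem InM.add {x y : ℂ} (hx : InM M x) (hy : InM M y) : InM M (x + y) := by
  obtain ⟨a, ha, rfl⟩ := hx
  obtain ⟨b, hb, rfl⟩ := hy
  exact ⟨a + b, M.add_mem ha hb, rfl⟩

theorem InM.neg {x : ℂ} (hx : InM M x) : InM M (-x) := by
  obtain ⟨a, ha, rfl⟩ := hx
  exact ⟨-a, M.neg_mem ha, rfl⟩

theorem InM.sub {x y : ℂ} (hx : InM M x) (hy : InM M y) : InM M (x - y) :=
  sub_eq_add_neg x y ▸ hx.add hy.neg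

theorem InM.mul_left {x y : ℂ} (hy : IsIntegral ℤ y) (hx : InM M x) : InM M (y * x) := by
  obtain ⟨a, ha, rfl⟩ := hx
  exact ⟨⟨y, hy⟩ * a, M.mul_mem_left _ ha, rfl⟩

theorem InM.mul_right {x y : ℂ} (hy : IsIntegral ℤ y) (hx : InM M x) : InM M (x * y) :=
  mul_comm y x ▸ hx.mul_left hy

theorem InM.sum {ι : Type*} (s : Finset ι) {F : ι → ℂ} (h : ∀ i ∈ s, InM M (F i)) :
    InM M (∑ i ∈ s, F i) :=
  Finset.sum_induction F (InM M) (fun _ _ => InM.add) inM_zero h

theorem InM.isIntegral {x : ℂ} (hx : InM M x) : IsIntegral ℤ x := by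
  obtain ⟨a, _, rfl⟩ := hx
  exact a.2

theorem InM.of_mul_nat (hM : IsPModular p M) {x : ℂ} (hx : IsIntegral ℤ x) {n : ℕ} (hn : ¬ p ∣ n)
    (h : InM M ((n : ℂ) * x)) : InM M x := by
  obtain ⟨a, ha, e⟩ := h
  have : (n : AlgInt) * ⟨x, hx⟩ ∈ M := by
    have h2 : (n : AlgInt) * ⟨x, hx⟩ = a := Subtype.ext (by simpa using e.symm)
    rwa [h2]
  rcases hM.2.1.isPrime.mem_or_mem this with h1 | h1
  · exact absurd ((natCast_mem_iff hM n).mp h1) hn
  · exact ⟨_, h1, rfl⟩

theorem InM.of_sq (hM : IsPModular p M) {x : ℂ} (hx : IsIntegral ℤ x) (h : InM M (x * x)) :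
    InM M x := by
  obtain ⟨a, ha, e⟩ := h
  have : (⟨x, hx⟩ : AlgInt) * ⟨x, hx⟩ ∈ M := by
    have h2 : (⟨x, hx⟩ : AlgInt) * ⟨x, hx⟩ = a := Subtype.ext (by simpa using e.symm)
    rwa [h2]
  exact ⟨_, (hM.2.1.isPrime.mem_or_mem this).elim id id, rfl⟩

theorem inM_natCast_iff (hM : IsPModular p M) (n : ℕ) : InM M (n : ℂ) ↔ p ∣ n := by
  refine ⟨fun ⟨a, ha, e⟩ => (natCast_mem_iff hM n).mp ?_,
    fun h => ⟨(n : AlgInt), (natCast_mem_iff hM n).mpr h, by simp⟩⟩
  have : a = (n : AlgInt) := Subtype.ext (by simpa using e)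
  exact this ▸ ha

theorem inM_intCast (hM : IsPModular p M) {n : ℤ} (h : (p : ℤ) ∣ n) : InM M (n : ℂ) :=
  ⟨(n : AlgInt), intCast_mem hM h, by simp⟩

theorem inM_p (hM : IsPModular p M) : InM M (p : ℂ) := (inM_natCast_iff hM p).mpr dvd_rfl

/-- If `χ` does not have p-defect zero, the central character is zero mod `M` on classes whose
centralizer has order prime to `p`. -/
theorem omega_classInd_inM (hM : IsPModular p M) (χ : IrrCharacter G)
    (hd : ¬ p ^ (Nat.card G).factorization p ∣ CT.deg (χ : G → ℂ)) (x : G)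
    (hx : ¬ p ∣ Nat.card (Subgroup.centralizer ({x} : Set G))) :
    InM M (omega (χ : G → ℂ) (classInd x)) := by
  classical
  have hp := hM.1
  haveI := Fact.mk hp
  set c := CT.deg (χ : G → ℂ) with hc
  set a := (Nat.card G).factorization p
  set K := Nat.card {g : G // IsConj x g} with hK
  have hcard := CT.card_conj_class_mul_centralizer x
  rw [← hK] at hcard
  have hpa : p ^ a ∣ K := by
    have h1 : p ^ a ∣ Nat.card G := Nat.ordProj_dvd _ _
    rw [← hcard] at h1
    exact ((hp.coprime_iff_not_dvd.mpr hx).pow_left a).dvd_of_dvd_mul_right h1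
  have hcpos : 0 < c := CT.deg_pos χ.2
  obtain ⟨e, n, hn, hcen⟩ : ∃ e n, ¬ p ∣ n ∧ c = p ^ e * n :=
    Nat.exists_eq_pow_mul_and_not_dvd hcpos.ne' p hp.ne_one
  have he : e < a := by
    by_contra hge
    exact hd (hcen ▸ (pow_dvd_pow p (not_lt.mp hge)).mul_right n)
  obtain ⟨m, hm⟩ : p ^ (e + 1) ∣ K := (pow_dvd_pow p he).trans hpa
  refine InM.of_mul_nat hM (omega_isIntegral χ.2 (classInd_isClassWeight x)) hn ?_
  rw [omega_classInd _ (CT.isClassFunction_of_isIrr χ.2), CT.deg_eq (CT.isCharacter_of_isIrr χ.2),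
    ← hc, ← hK, hcen, hm]
  have hn0 : (n : ℂ) ≠ 0 := Nat.cast_ne_zero.mpr fun h => hn (h ▸ dvd_zero p)
  have hp0 : (p : ℂ) ≠ 0 := Nat.cast_ne_zero.mpr hp.ne_zero
  have : (n : ℂ) * (((p ^ (e + 1) * m : ℕ) : ℂ) * (χ : G → ℂ) x / ((p ^ e * n : ℕ) : ℂ)) =
      (p : ℂ) * ((m : ℂ) * (χ : G → ℂ) x) := by
    push_cast
    field_simp
    ring
  rw [this]
  exact (inM_p hM).mul_right ((isIntegral_natCast m).mul
    (CT.isIntegral_isCharacter (CT.isCharacter_of_isIrr χ.2) _))

/-- A class weight vanishing mod `p` wherever the centralizer has order divisible by `p` gives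
`omega ≡ 0` at characters of positive defect. -/
theorem omega_inM (hM : IsPModular p M) (χ : IrrCharacter G)
    (hd : ¬ p ^ (Nat.card G).factorization p ∣ CT.deg (χ : G → ℂ)) {f : G → ℤ}
    (hf : IsClassWeight f)
    (hfx : ∀ x, p ∣ Nat.card (Subgroup.centralizer ({x} : Set G)) → (p : ℤ) ∣ f x) :
    InM M (omega (χ : G → ℂ) f) := by
  classical
  haveI : Finite (ConjClasses G) := Finite.of_surjective _ ConjClasses.mk_surjective
  haveI := Fintype.ofFinite (ConjClasses G)
  choose rep hrep using fun C : ConjClasses G => ConjClasses.exists_rep C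
  rw [omega_eq_sum_classes hf rep hrep]
  refine InM.sum _ fun C _ => ?_
  by_cases hC : p ∣ Nat.card (Subgroup.centralizer ({rep C} : Set G))
  · exact (inM_intCast hM (hfx _ hC)).mul_right (omega_isIntegral χ.2 (classInd_isClassWeight _))
  · exact (omega_classInd_inM hM χ hd _ hC).mul_left (isIntegral_intCast _)

/-- The number of elements of square one. -/
noncomputable def sqOne (G : Type u) [Group G] : G → ℤ := by
  classical exact fun g => if g * g = 1 then 1 else 0

omit [Fintype G] in
theorem sqOne_isClassWeight : IsClassWeight (sqOne G) := by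
  classical
  intro g h
  unfold sqOne
  refine if_congr ?_ rfl rfl
  rw [show h * g * h⁻¹ * (h * g * h⁻¹) = h * (g * g) * h⁻¹ by group, conj_eq_one_iff]

/-- For `p = 2`, the weight `g² = 1` is `≡ 0` at characters of positive defect. -/
theorem omega_sqOne_inM (hM : IsPModular 2 M) (χ : IrrCharacter G)
    (hd : ¬ 2 ^ (Nat.card G).factorization 2 ∣ CT.deg (χ : G → ℂ)) :
    InM M (omega (χ : G → ℂ) (sqOne G)) := by
  classical
  haveI : Fact (Nat.Prime 2) := ⟨Nat.prime_two⟩
  set s := omega (χ : G → ℂ) (sqOne G) with hs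
  let N : G → ℤ := fun g => ∑ z, sqOne G z * sqOne G (z * g)
  have hN : IsClassWeight N := by
    intro g h
    refine (Fintype.sum_equiv (MulAut.conj h).toEquiv _ _ fun z => ?_).symm
    simp only [MulEquiv.toEquiv_eq_coe, MulEquiv.coe_toEquiv, MulAut.conj_apply]
    rw [show h * z * h⁻¹ * (h * g * h⁻¹) = h * (z * g) * h⁻¹ by group,
      sqOne_isClassWeight, sqOne_isClassWeight]
  refine InM.of_sq hM (omega_isIntegral χ.2 sqOne_isClassWeight) ?_
  have key : s * s = omega (χ : G → ℂ) N := by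
    have h1 : (∑ g, (sqOne G g : ℂ) * (χ : G → ℂ) g) * s =
        ∑ g, (N g : ℂ) * (χ : G → ℂ) g := by
      rw [Finset.sum_mul]
      have h2 : ∀ z : G, (sqOne G z : ℂ) * (χ : G → ℂ) z * s =
          ∑ g, ((sqOne G z : ℤ) * sqOne G (z * g) : ℂ) * (χ : G → ℂ) g := by
        intro z
        rw [mul_assoc, hs, char_mul_omega χ.2 sqOne_isClassWeight, Finset.mul_sum]
        refine Fintype.sum_equiv (Equiv.mulLeft z) _ _ fun w => ?_
        simp only [Equiv.coe_mulLeft]
        unfold sqOne
        by_cases hz : z * z = 1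
        · rw [if_pos hz, ← mul_assoc z z w, hz, one_mul]
          ring
        · simp [hz]
      rw [Finset.sum_congr rfl fun z _ => h2 z, Finset.sum_comm]
      refine Finset.sum_congr rfl fun g _ => ?_
      simp only [N, Int.cast_sum, Int.cast_mul, Finset.sum_mul]
    show _ = (∑ g, (N g : ℂ) * (χ : G → ℂ) g) / (χ : G → ℂ) 1
    rw [← h1, hs, omega]
    ring
  rw [key]
  refine omega_inM hM χ hd hN fun g hg => ?_
  obtain ⟨t₀, ht₀⟩ := exists_prime_orderOf_dvd_card' 2 hg
  set t : G := (t₀ : G)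
  have htord : orderOf t = 2 := (Subgroup.orderOf_coe t₀).trans ht₀
  have ht2 : t * t = 1 := by rw [← pow_two, ← htord]; exact pow_orderOf_eq_one t
  have ht1 : t ≠ 1 := fun h => by rw [h, orderOf_one] at htord; omega
  have htg : t * g = g * t := Subgroup.mem_centralizer_singleton_iff.mp t₀.2
  rw [← ZMod.intCast_zmod_eq_zero_iff_dvd, Int.cast_sum]
  refine Finset.sum_involution (fun z _ => if z * t = t * z then z * t else t * z * t)
    (fun z _ => ?_) (fun z _ _ => ?_) (fun z _ => Finset.mem_univ _) (fun z _ => ?_)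
  · have hadd : ∀ x : ZMod 2, x + x = 0 := by decide
    have heq : sqOne G (if z * t = t * z then z * t else t * z * t) *
        sqOne G ((if z * t = t * z then z * t else t * z * t) * g) =
        sqOne G z * sqOne G (z * g) := by
      have e1 : t⁻¹ = t := inv_eq_of_mul_eq_one_left ht2
      split_ifs with hzt
      · have a1 : z * t * (z * t) = z * z := by
          calc z * t * (z * t) = z * (t * z) * t := by group
            _ = z * (z * t) * t := by rw [hzt]
            _ = z * z * (t * t) := by group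
            _ = z * z := by rw [ht2, mul_one]
        have a2 : z * t * g * (z * t * g) = z * g * (z * g) := by
          calc z * t * g * (z * t * g) = z * (t * g) * (z * t) * g := by group
            _ = z * (g * t) * (t * z) * g := by rw [htg, hzt]
            _ = z * g * (t * t) * z * g := by group
            _ = z * g * (z * g) := by rw [ht2]; group
        unfold sqOne
        rw [a1, a2]
      · rw [show t * z * t = t * z * t⁻¹ by rw [e1], show t * z * t⁻¹ * g = t * (z * g) * t⁻¹ by
          calc t * z * t⁻¹ * g = t * z * (t⁻¹ * (g * t)) * t⁻¹ := by group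
            _ = t * z * (t⁻¹ * (t * g)) * t⁻¹ := by rw [htg]
            _ = t * (z * g) * t⁻¹ := by group, sqOne_isClassWeight, sqOne_isClassWeight]
    rw [heq]
    exact hadd _
  · split_ifs with hzt
    · simpa using ht1
    · intro h
      refine hzt ?_
      calc z * t = t * z * t * t := by rw [h]
        _ = t * z := by rw [mul_assoc (t * z), ht2, mul_one]
  · by_cases hzt : z * t = t * z
    · have h2 : z * t * t = t * (z * t) := by rw [← mul_assoc, ← hzt]
      simp only [hzt, if_true]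
      rw [← hzt, if_pos h2, mul_assoc, ht2, mul_one]
    · simp only [hzt, if_false]
      have h2 : ¬ (t * z * t * t = t * (t * z * t)) := by
        rw [mul_assoc (t * z), ht2, mul_one, ← mul_assoc, ← mul_assoc, ht2, one_mul]
        exact fun h => hzt h.symm
      rw [if_neg h2, ← mul_assoc, ← mul_assoc, ht2, one_mul, mul_assoc, ht2, mul_one]

/-- The indicator of p-elements. -/
noncomputable def pElt (p : ℕ) (G : Type u) [Group G] : G → ℤ := by
  classical exact fun g => if ∃ k : ℕ, orderOf g = p ^ k then 1 else 0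

omit [Fintype G] in
theorem pElt_isClassWeight (p : ℕ) : IsClassWeight (pElt p G) := by
  intro g h
  unfold pElt
  rw [← MulAut.conj_apply, MulEquiv.orderOf_eq]

theorem isPGroup_zpowers_iff [Fact p.Prime] (g : G) :
    IsPGroup p (Subgroup.zpowers g) ↔ ∃ k : ℕ, orderOf g = p ^ k := by
  rw [IsPGroup.iff_card, Nat.card_zpowers]

/-- The weight "p-element" is `≡ 0` at characters of positive defect. -/
theorem omega_pElt_inM (hM : IsPModular p M) (χ : IrrCharacter G)
    (hd : ¬ p ^ (Nat.card G).factorization p ∣ CT.deg (χ : G → ℂ)) :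
    InM M (omega (χ : G → ℂ) (pElt p G)) := by
  classical
  have hp := hM.1
  haveI := Fact.mk hp
  haveI := Fintype.ofFinite (Sylow p G)
  let n : G → ℤ := fun g => ∑ S : Sylow p G, if g ∈ (S : Subgroup G) then 1 else 0
  have hn : IsClassWeight n := by
    intro g h
    refine (Fintype.sum_equiv (MulAction.toPerm h) _ _ fun S => ?_).symm
    rw [MulAction.toPerm_apply]
    refine if_congr ?_ rfl rfl
    rw [Sylow.coe_subgroup_smul, Subgroup.mem_pointwise_smul_iff_inv_smul_mem]
    simp [MulAut.smul_def, mul_assoc]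
  -- the weight n is concentrated on p-elements, where it is 1 mod p
  have hmod : ∀ g, (p : ℤ) ∣ n g - pElt p G g := by
    intro g
    rw [← ZMod.intCast_zmod_eq_zero_iff_dvd]
    simp only [n, Int.cast_sub, Int.cast_sum, pElt]
    by_cases hg : ∃ k : ℕ, orderOf g = p ^ k
    · rw [if_pos hg, sub_eq_zero]
      have hP : IsPGroup p (Subgroup.zpowers g) := (isPGroup_zpowers_iff g).mpr hg
      have hfix := hP.card_modEq_card_fixedPoints (Sylow p G)
      have hone := (card_sylow_modEq_one p G)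
      have heq : Nat.card (MulAction.fixedPoints (Subgroup.zpowers g) (Sylow p G)) =
          (Finset.univ.filter fun S : Sylow p G => g ∈ (S : Subgroup G)).card := by
        rw [← Fintype.card_subtype, ← Nat.card_eq_fintype_card]
        refine Nat.card_congr (Equiv.subtypeEquivRight fun S => ?_)
        rw [MulAction.mem_fixedPoints]
        constructor
        · intro h
          exact Subgroup.zpowers_le.mp (hP.sylow_mem_fixedPoints_iff.mp
            (MulAction.mem_fixedPoints.mpr h))
        · intro h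
          exact MulAction.mem_fixedPoints.mp
            (hP.sylow_mem_fixedPoints_iff.mpr (Subgroup.zpowers_le.mpr h))
      have h1 : ((Finset.univ.filter fun S : Sylow p G => g ∈ (S : Subgroup G)).card : ZMod p) = 1 := by
        have := (ZMod.natCast_eq_natCast_iff _ _ _).mpr (hfix.symm.trans hone)
        rwa [heq, Nat.cast_one] at this
      simpa [Finset.sum_boole] using h1
    · rw [if_neg hg, Int.cast_zero, sub_zero]
      refine Finset.sum_eq_zero fun S _ => ?_
      rw [if_neg, Int.cast_zero]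
      intro hgS
      exact hg ((isPGroup_zpowers_iff g).mp (S.2.to_le (Subgroup.zpowers_le.mpr hgS)))
  have hsplit : omega (χ : G → ℂ) (pElt p G) =
      omega (χ : G → ℂ) n - omega (χ : G → ℂ) (fun g => n g - pElt p G g) := by
    simp only [omega, ← sub_div, ← Finset.sum_sub_distrib, Int.cast_sub]
    congr 1
    exact Finset.sum_congr rfl fun g _ => by ring
  rw [hsplit]
  refine InM.sub ?_ (omega_inM hM χ hd (fun g h => by
    simp only [hn g h, pElt_isClassWeight p g h]) fun g _ => hmod g)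
  -- each Sylow subgroup contributes |P| * multiplicity / degree
  obtain ⟨e, m, hm, hcm⟩ := Nat.exists_eq_pow_mul_and_not_dvd (CT.deg_pos χ.2).ne' p hp.ne_one
  set a := (Nat.card G).factorization p
  have he : e < a := by
    by_contra hge
    exact hd (hcm ▸ (pow_dvd_pow p (not_lt.mp hge)).mul_right m)
  have hS : ∀ S : Sylow p G, ∃ k : ℕ,
      ∑ g, (if g ∈ (S : Subgroup G) then (χ : G → ℂ) g else 0) = ((p ^ a * k : ℕ) : ℂ) := by
    intro S
    obtain ⟨k, hk⟩ := CT.classInner_character_nat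
      (CT.isCharacter_restrict (S : Subgroup G) (CT.isCharacter_of_isIrr χ.2))
      (CT.isCharacter_one (G := (S : Subgroup G)))
    refine ⟨k, ?_⟩
    rw [classInner, inv_mul_eq_iff_eq_mul₀ CT.card_ne_zero] at hk
    simp only [map_one, mul_one] at hk
    rw [← Finset.sum_filter, ← Finset.sum_subtype_eq_sum_filter] at *
    rw [Nat.cast_mul, ← S.card_eq_multiplicity, ← hk]
    exact Finset.sum_congr (by ext; simp) fun x _ => rfl
  choose k hk using hS
  refine InM.of_mul_nat hM (omega_isIntegral χ.2 hn) hm ?_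
  have htot : ∑ g, (n g : ℂ) * (χ : G → ℂ) g = ((p ^ a * ∑ S, k S : ℕ) : ℂ) := by
    simp only [n, Int.cast_sum, Finset.sum_mul]
    rw [Finset.sum_comm, Finset.mul_sum, Nat.cast_sum]
    refine Finset.sum_congr rfl fun S _ => ?_
    rw [← hk S]
    exact Finset.sum_congr rfl fun g _ => by split_ifs <;> simp
  rw [omega, htot, CT.deg_eq (CT.isCharacter_of_isIrr χ.2), hcm]
  have hm0 : (m : ℂ) ≠ 0 := Nat.cast_ne_zero.mpr fun h => hm (h ▸ dvd_zero p)
  have hp0 : (p : ℂ) ≠ 0 := Nat.cast_ne_zero.mpr hp.ne_zero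
  obtain ⟨d, hd'⟩ := Nat.exists_eq_add_of_lt he
  have : (m : ℂ) * (((p ^ a * ∑ S, k S : ℕ) : ℂ) / ((p ^ e * m : ℕ) : ℂ)) =
      ((p * (p ^ d * ∑ S, k S) : ℕ) : ℂ) := by
    rw [hd']
    push_cast
    field_simp
    ring
  rw [this]
  exact (inM_natCast_iff hM _).mpr (dvd_mul_right p _)

end Residue

/-- The character table weighted by `omega f`, paired between two elements. -/
theorem sum_char_omega_conj {f : G → ℤ} (hf : IsClassWeight f) (y b : G) :
    ∑ χ : IrrCharacter G, (χ : G → ℂ) y * omega (χ : G → ℂ) f * conj ((χ : G → ℂ) b) =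
      (Nat.card (Subgroup.centralizer ({b} : Set G)) : ℂ) *
        ∑ g, (f g : ℂ) * (classInd b (y * g) : ℂ) := by
  classical
  have h1 : ∀ χ : IrrCharacter G, (χ : G → ℂ) y * omega (χ : G → ℂ) f * conj ((χ : G → ℂ) b) =
      ∑ g, (f g : ℂ) * ((χ : G → ℂ) (y * g) * conj ((χ : G → ℂ) b)) := by
    intro χ
    rw [char_mul_omega χ.2 hf, Finset.sum_mul]
    simp [mul_assoc]
  rw [Finset.sum_congr rfl fun χ _ => h1 χ, Finset.sum_comm, Finset.mul_sum]
  refine Finset.sum_congr rfl fun g _ => ?_
  rw [← Finset.mul_sum, CT.column_orthogonality]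
  unfold classInd
  by_cases h : IsConj (y * g) b
  · obtain ⟨c, hc⟩ := isConj_iff.mp h
    have hcard : Nat.card (Subgroup.centralizer ({y * g} : Set G)) =
        Nat.card (Subgroup.centralizer ({b} : Set G)) := by
      have a1 := CT.card_conj_class_mul_centralizer (y * g)
      have a2 := CT.card_conj_class_mul_centralizer b
      have a3 : Nat.card {x : G // IsConj (y * g) x} = Nat.card {x : G // IsConj b x} :=
        Nat.card_congr (Equiv.subtypeEquivRight fun x =>
          ⟨fun a => h.symm.trans a, fun a => h.trans a⟩)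
      rw [a3, ← a2] at a1
      haveI : Nonempty {x : G // IsConj b x} := ⟨⟨b, IsConj.refl b⟩⟩
      exact Nat.eq_of_mul_eq_mul_left Nat.card_pos a1
    rw [if_pos h, if_pos h.symm, hcard]
    push_cast
    ring
  · have h' : ¬ IsConj b (y * g) := fun a => h a.symm
    rw [if_neg h, if_neg h']
    simp

end Cfsg.Agent.ClassSum
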