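import Cfsg.Agent.Lib.CT.Basic
import Mathlib.NumberTheory.Cyclotomic.Basic
import Mathlib.NumberTheory.Cyclotomic.Gal
import Mathlib.Analysis.SpecialFunctions.Log.Basic

/-!
# Galois action on character values and the mean value trick

A set closed under coprime powers on which a character has no zero has the product of the values
a nonzero rational integer, so the mean of the absolute values is at least one.
-/

namespace Cfsg.Agent.ClassSum

open scoped ComplexConjugate IntermediateField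
open Cfsg.Agent

universe u

variable {G : Type u} [Group G] [Finite G]

theorem cyclo_adjoin {n : ℕ} [NeZero n] {ζ : ℂ} (hζ : IsPrimitiveRoot ζ n) :
    IsCyclotomicExtension {n} ℚ (IntermediateField.adjoin ℚ {ζ}) := by
  change IsCyclotomicExtension {n} ℚ (IntermediateField.adjoin ℚ {ζ}).toSubalgebra
  rw [IntermediateField.adjoin_simple_toSubalgebra_of_isAlgebraic
    ((hζ.isIntegral (NeZero.pos n)).tower_top (A := ℚ)).isAlgebraic]
  exact hζ.adjoin_isCyclotomicExtension ℚ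

/-- Every element of a primitive root field is fixed by all power maps iff it is rational; used on
products of character values. -/
theorem exists_galois_data (G : Type u) [Group G] [Finite G] :
    ∃ K : IntermediateField ℚ ℂ, FiniteDimensional ℚ K ∧ IsGalois ℚ K ∧
      ∀ θ : G → ℂ, IsCharacter G θ → (∀ x, θ x ∈ K) ∧
        ∀ σ : Gal(K/ℚ), ∃ k : ℕ, k.Coprime (Nat.card G) ∧
          ∀ θ' : G → ℂ, IsCharacter G θ' → ∀ x (h : θ' x ∈ K),
            ((σ ⟨θ' x, h⟩ : K) : ℂ) = θ' (x ^ k) := by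
  classical
  set n := Nat.card G with hn
  haveI : NeZero n := ⟨Nat.card_pos.ne'⟩
  obtain ⟨ζ, hζ⟩ : ∃ ζ : ℂ, IsPrimitiveRoot ζ n := ⟨_, Complex.isPrimitiveRoot_exp n (NeZero.ne n)⟩
  let K : IntermediateField ℚ ℂ := ℚ⟮ζ⟯
  haveI : IsCyclotomicExtension {n} ℚ K := cyclo_adjoin hζ
  haveI : FiniteDimensional ℚ K := IsCyclotomicExtension.finiteDimensional {n} ℚ K
  refine ⟨K, inferInstance, IsCyclotomicExtension.isGalois {n} ℚ K, fun θ hθ => ?_⟩
  have hζK : ζ ∈ K := IntermediateField.mem_adjoin_simple_self ℚ ζ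
  have hroot : ∀ ω : ℂ, ω ^ n = 1 → ω ∈ K := by
    intro ω hω
    obtain ⟨i, -, rfl⟩ := hζ.eq_pow_of_pow_eq_one hω
    exact pow_mem hζK i
  refine ⟨fun x => ?_, fun σ => ?_⟩
  · obtain ⟨m, ρ, rfl⟩ := hθ
    obtain ⟨ω, hω, h⟩ := CT.exists_eigenvalues_one ρ x
    rw [h]
    refine K.toSubfield.toSubring.sum_mem fun i _ => hroot _ ?_
    exact orderOf_dvd_iff_pow_eq_one.mp
      ((orderOf_dvd_of_pow_eq_one (hω i)).trans (orderOf_dvd_natCard x))
  · have hζ' : IsPrimitiveRoot (⟨ζ, hζK⟩ : K) n :=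
      IsPrimitiveRoot.of_map_of_injective (f := K.val) hζ K.val.injective
    obtain ⟨k, -, hk, hσ⟩ := hζ'.isPrimitiveRoot_iff.mp (hζ'.map_of_injective σ.injective)
    refine ⟨k, hk, fun θ' hθ' x h => ?_⟩
    obtain ⟨m, ρ, rfl⟩ := hθ'
    obtain ⟨ω, hω, he⟩ := CT.exists_eigenvalues ρ x
    have hωn : ∀ i, ω i ^ n = 1 := fun i => orderOf_dvd_iff_pow_eq_one.mp
      ((orderOf_dvd_of_pow_eq_one (hω i)).trans (orderOf_dvd_natCard x))
    choose j hj using fun i => (hζ.eq_pow_of_pow_eq_one (hωn i))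
    have e : (⟨ρ.character x, h⟩ : K) = ∑ i, (⟨ζ, hζK⟩ : K) ^ j i := by
      apply Subtype.ext
      rw [AddSubmonoidClass.coe_finsetSum]
      simp only [SubmonoidClass.coe_pow]
      rw [show ρ.character x = ρ.character (x ^ 1) by rw [pow_one], he 1]
      exact Finset.sum_congr rfl fun i _ => by rw [pow_one, (hj i).2]
    rw [e, map_sum, he k, AddSubmonoidClass.coe_finsetSum]
    refine Finset.sum_congr rfl fun i _ => ?_
    rw [map_pow, ← hσ]
    simp only [SubmonoidClass.coe_pow]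
    rw [← (hj i).2, ← pow_mul, ← pow_mul, mul_comm]

/-- Coprime powers preserve nonvanishing. -/
theorem char_pow_ne_zero {θ : G → ℂ} (hθ : IsCharacter G θ) {x : G} (hx : θ x ≠ 0) {k : ℕ}
    (hk : k.Coprime (Nat.card G)) : θ (x ^ k) ≠ 0 := by
  classical
  obtain ⟨m, ρ, rfl⟩ := hθ
  obtain ⟨ω, hω, he⟩ := CT.exists_eigenvalues ρ x
  set n := Nat.card G with hn
  haveI : NeZero n := ⟨Nat.card_pos.ne'⟩
  obtain ⟨ζ, hζ⟩ : ∃ ζ : ℂ, IsPrimitiveRoot ζ n := ⟨_, Complex.isPrimitiveRoot_exp n (NeZero.ne n)⟩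
  choose j hj using fun i => hζ.eq_pow_of_pow_eq_one (orderOf_dvd_iff_pow_eq_one.mp
    ((orderOf_dvd_of_pow_eq_one (hω i)).trans (orderOf_dvd_natCard x)))
  have hζk : IsPrimitiveRoot (ζ ^ k) n := hζ.pow_of_coprime k hk
  intro h0
  let f : Polynomial ℚ := ∑ i, Polynomial.X ^ j i
  have hev : ∀ z : ℂ, Polynomial.aeval z f = ∑ i, z ^ j i := fun z => by simp [f]
  have h1 : Polynomial.aeval (ζ ^ k) f = 0 := by
    rw [hev, ← h0, he k]
    exact Finset.sum_congr rfl fun i _ => by rw [← (hj i).2, ← pow_mul, ← pow_mul, mul_comm]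
  have h2 : minpoly ℚ ζ ∣ f := by
    rw [← Polynomial.cyclotomic_eq_minpoly_rat hζ (NeZero.pos n),
      Polynomial.cyclotomic_eq_minpoly_rat hζk (NeZero.pos n)]
    exact minpoly.dvd ℚ _ h1
  refine hx ?_
  obtain ⟨q, hq⟩ := h2
  have h3 := he 1
  rw [pow_one] at h3
  rw [h3, Finset.sum_congr rfl (g := fun i => ζ ^ j i) fun i _ => by rw [(hj i).2, pow_one],
    ← hev, hq, map_mul, minpoly.aeval, zero_mul]

theorem card_le_sum_of_one_le_prod {ι : Type*} (s : Finset ι) (a : ι → ℝ) (ha : ∀ i ∈ s, 0 < a i)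
    (h : 1 ≤ ∏ i ∈ s, a i) : (s.card : ℝ) ≤ ∑ i ∈ s, a i := by
  have h1 : ∑ i ∈ s, Real.log (a i) = Real.log (∏ i ∈ s, a i) :=
    (Real.log_prod (fun i hi => (ha i hi).ne')).symm
  have h2 : ∑ i ∈ s, (1 + Real.log (a i)) ≤ ∑ i ∈ s, a i := Finset.sum_le_sum fun i hi => by
    linarith [Real.log_le_sub_one_of_pos (ha i hi)]
  rw [Finset.sum_add_distrib, Finset.sum_const, nsmul_eq_mul, mul_one, h1] at h2
  linarith [Real.log_nonneg h]

/-- The product of the values over a set closed under coprime powers has absolute value at least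
one, if it does not vanish. -/
theorem one_le_prod_norm {θ : G → ℂ} (hθ : IsCharacter G θ) (S : Finset G)
    (hS : ∀ x ∈ S, ∀ k : ℕ, k.Coprime (Nat.card G) → x ^ k ∈ S) (hne : ∀ x ∈ S, θ x ≠ 0) :
    1 ≤ ∏ x ∈ S, ‖θ x‖ := by
  classical
  obtain ⟨K, hfin, hgal, hK⟩ := exists_galois_data G
  obtain ⟨hmem, hσ⟩ := hK θ hθ
  let P : K := ∏ x ∈ S, ⟨θ x, hmem x⟩
  have hfix : ∀ σ : Gal(K/ℚ), σ P = P := by
    intro σ
    obtain ⟨k, hk, hkσ⟩ := hσ σ
    simp only [P, map_prod]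
    refine Finset.prod_bij (fun x _ => x ^ k) (fun x hx => hS x hx k hk)
      (fun a _ b _ h => (powCoprime (Nat.Coprime.symm hk)).injective h) (fun b hb => ?_)
      (fun x _ => ?_)
    · have himg : S.image (fun x => x ^ k) = S :=
        Finset.eq_of_subset_of_card_le (fun y hy => by
          obtain ⟨x, hx, rfl⟩ := Finset.mem_image.mp hy
          exact hS x hx k hk) (le_of_eq (Finset.card_image_of_injective _
            (powCoprime (Nat.Coprime.symm hk)).injective).symm)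
      rw [← himg] at hb
      obtain ⟨x, hx, hxb⟩ := Finset.mem_image.mp hb
      exact ⟨x, hx, hxb⟩
    · exact Subtype.ext (hkσ θ hθ x (hmem x))
  obtain ⟨r, hr⟩ := IntermediateField.mem_bot.mp ((IsGalois.mem_bot_iff_fixed P).mpr hfix)
  have hP : (P : ℂ) = ∏ x ∈ S, θ x := by
    simp only [P]
    exact map_prod K.val _ S
  have hint : IsIntegral ℤ (P : ℂ) :=
    hP ▸ IsIntegral.prod _ fun x _ => CT.isIntegral_isCharacter hθ x
  have hr' : (P : ℂ) = (r : ℂ) := by rw [← hr]; simp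
  rw [hr'] at hint
  have hint' : IsIntegral ℤ r := by
    rw [← isIntegral_algebraMap_iff (A := ℚ) (B := ℂ) (algebraMap ℚ ℂ).injective]
    simpa using hint
  obtain ⟨z, hz⟩ := IsIntegrallyClosed.isIntegral_iff.mp hint'
  have hval : ∏ x ∈ S, θ x = (z : ℂ) := by rw [← hP, hr', ← hz]; simp
  have hz0 : z ≠ 0 := fun e => (Finset.prod_ne_zero_iff.mpr hne) (by rw [hval, e, Int.cast_zero])
  rw [← norm_prod, hval, Complex.norm_intCast, ← Int.cast_abs]
  exact_mod_cast Int.one_le_abs hz0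

theorem card_le_sum_norm {θ : G → ℂ} (hθ : IsCharacter G θ) (S : Finset G)
    (hS : ∀ x ∈ S, ∀ k : ℕ, k.Coprime (Nat.card G) → x ^ k ∈ S) (hne : ∀ x ∈ S, θ x ≠ 0) :
    (S.card : ℝ) ≤ ∑ x ∈ S, ‖θ x‖ :=
  card_le_sum_of_one_le_prod S _ (fun x hx => norm_pos_iff.mpr (hne x hx))
    (one_le_prod_norm hθ S hS hne)

theorem card_le_sum_norm_sq {θ : G → ℂ} (hθ : IsCharacter G θ) (S : Finset G)
    (hS : ∀ x ∈ S, ∀ k : ℕ, k.Coprime (Nat.card G) → x ^ k ∈ S) (hne : ∀ x ∈ S, θ x ≠ 0) :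
    (S.card : ℝ) ≤ ∑ x ∈ S, ‖θ x‖ ^ 2 :=
  card_le_sum_of_one_le_prod S _ (fun x hx => pow_pos (norm_pos_iff.mpr (hne x hx)) 2)
    (by rw [Finset.prod_pow]; exact one_le_pow₀ (one_le_prod_norm hθ S hS hne))

end Cfsg.Agent.ClassSum
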