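import Cfsg.Agent.Lib.ClassSum.DefectZero
import Cfsg.Agent.Lib.Blocks.Orthogonality

/-!
# Characters of p-defect zero vanish at p-singular elements
-/

namespace Cfsg.Agent.ClassSum

open scoped ComplexConjugate
open Cfsg.Agent

universe u

theorem blockCoeff_singleton {G : Type u} [Group G] (χ : IrrCharacter G) (g : G) :
    blockCoeff ({χ} : Set (IrrCharacter G)) g =
      (Nat.card G : ℂ)⁻¹ * ((χ : G → ℂ) 1 * conj ((χ : G → ℂ) g)) := by
  rw [blockCoeff, finsum_mem_singleton]

/-- A character with full p-part in its degree vanishes at every p-singular element. -/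
theorem char_eq_zero_of_defZero {G : Type u} [Group G] [Finite G] {p : ℕ} (hp : p.Prime)
    (χ : IrrCharacter G) (hd : p ^ (Nat.card G).factorization p ∣ CT.deg (χ : G → ℂ)) {g : G}
    (hg : p ∣ orderOf g) : (χ : G → ℂ) g = 0 := by
  haveI := Fintype.ofFinite G
  obtain ⟨M, hM⟩ := exists_modular p hp
  haveI := Blocks.isPrime_of_modular hM
  have hA : ∀ u, blockCoeff ({χ} : Set (IrrCharacter G)) u ∈ Blocks.Loc M := by
    intro u
    rw [blockCoeff_singleton, CT.deg_eq (CT.isCharacter_of_isIrr χ.2),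
      ← CT.char_inv_eq_conj (CT.isCharacter_of_isIrr χ.2)]
    obtain ⟨e, he⟩ := hd
    set m := Nat.card G / p ^ (Nat.card G).factorization p with hm
    have hcard : p ^ (Nat.card G).factorization p * m = Nat.card G :=
      Nat.ordProj_mul_ordCompl_eq_self _ _
    have hmM : (m : AlgInt) ∉ M := fun h =>
      Nat.not_dvd_ordCompl hp Nat.card_pos.ne' ((natCast_mem_iff hM m).mp h)
    refine Blocks.mem_loc_iff.mpr ⟨(e : AlgInt) * Blocks.aint
      (CT.isIntegral_isCharacter (CT.isCharacter_of_isIrr χ.2) u⁻¹), (m : AlgInt), hmM, ?_⟩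
    have hp0 : (p : ℂ) ≠ 0 := Nat.cast_ne_zero.mpr hp.ne_zero
    have hm0 : (m : ℂ) ≠ 0 := Nat.cast_ne_zero.mpr fun h => hmM (by simp [h])
    conv_rhs => rw [← hcard, he]
    push_cast
    simp only [Blocks.coe_aint]
    field_simp
  have h := Blocks.weak_orthogonality hM hA (g := (1 : G)) (h := g)
    (by rw [orderOf_one]; exact hp.not_dvd_one) hg
  rw [finsum_mem_singleton, mul_eq_zero, map_eq_zero (starRingEnd ℂ)] at h
  exact h.resolve_left (CT.irr_one_ne_zero χ.2)

end Cfsg.Agent.ClassSum
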