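import Cfsg.Agent.Lib.CT.Orthogonality
import Mathlib.Algebra.Order.BigOperators.Group.Finset
import Mathlib.Algebra.Order.Field.Rat
import Mathlib.Data.Rat.Defs

/-!
# Landau's theorem

A bound on the number of conjugacy classes bounds the order of a finite group.
-/

namespace Cfsg.Agent.ClassSum

universe u

/-- Finitely many unit fractions with a given positive sum. -/
theorem exists_bound_unit_fractions (k : ℕ) : ∀ q : ℚ, ∃ N : ℕ, ∀ f : Fin k → ℕ,
    (∀ i, 0 < f i) → ∑ i, ((f i : ℚ))⁻¹ = q → ∀ i, f i ≤ N := by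
  induction k with
  | zero => exact fun q => ⟨0, fun f _ _ i => i.elim0⟩
  | succ k ih =>
    intro q
    by_cases hq : q ≤ 0
    · refine ⟨0, fun f hf hs i => ?_⟩
      have : (0 : ℚ) < ∑ j, ((f j : ℚ))⁻¹ :=
        Finset.sum_pos (fun j _ => inv_pos.mpr (Nat.cast_pos.mpr (hf j))) ⟨i, Finset.mem_univ i⟩
      exact absurd (hs ▸ this) (not_lt.mpr hq)
    push Not at hq
    choose N hN using ih
    obtain ⟨m, hm⟩ := exists_nat_ge (((k + 1 : ℕ) : ℚ) / q)
    refine ⟨max m ((Finset.range (m + 1)).sup fun n => N (q - ((n : ℚ))⁻¹)), fun f hf hs i => ?_⟩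
    obtain ⟨j, -, hj⟩ := Finset.exists_min_image Finset.univ f ⟨i, Finset.mem_univ i⟩
    have hjm : f j ≤ m := by
      have h1 : q ≤ ((k + 1 : ℕ) : ℚ) * ((f j : ℚ))⁻¹ := by
        rw [← hs]
        refine (Finset.sum_le_card_nsmul _ _ ((f j : ℚ))⁻¹ fun l _ => ?_).trans_eq ?_
        · exact inv_anti₀ (Nat.cast_pos.mpr (hf j)) (Nat.cast_le.mpr (hj l (Finset.mem_univ l)))
        · simp
      have h2 : (f j : ℚ) ≤ ((k + 1 : ℕ) : ℚ) / q := by
        rw [le_div_iff₀ hq]
        have := mul_le_mul_of_nonneg_left h1 (Nat.cast_nonneg (f j))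
        rw [mul_left_comm, mul_inv_cancel₀ (Nat.cast_ne_zero.mpr (hf j).ne'), mul_one] at this
        exact this
      exact_mod_cast h2.trans hm
    rcases eq_or_ne i j with rfl | hne
    · exact le_max_of_le_left hjm
    · obtain ⟨l, rfl⟩ := Fin.exists_succAbove_eq hne
      refine le_max_of_le_right (le_trans ?_ (Finset.le_sup (Finset.mem_range.mpr
        (Nat.lt_succ_of_le hjm))))
      refine hN (q - ((f j : ℚ))⁻¹) (f ∘ j.succAbove) (fun _ => hf _) ?_ l
      rw [← hs, Fin.sum_univ_succAbove _ j]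
      simp

/-- Landau's theorem. -/
theorem exists_bound_of_classNumber (k : ℕ) : ∃ N : ℕ, ∀ (G : Type u) [Group G] [Finite G],
    Nat.card (ConjClasses G) ≤ k → Nat.card G ≤ N := by
  choose N hN using fun n : ℕ => exists_bound_unit_fractions n 1
  refine ⟨(Finset.range (k + 1)).sup N, fun G _ _ hk => ?_⟩
  classical
  haveI := Fintype.ofFinite G
  haveI : Finite (ConjClasses G) := Finite.of_surjective _ ConjClasses.mk_surjective
  haveI := Fintype.ofFinite (ConjClasses G)
  choose rep hrep using fun C : ConjClasses G => ConjClasses.exists_rep C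
  let e : Fin (Nat.card (ConjClasses G)) ≃ ConjClasses G := (Finite.equivFin _).symm
  let f : Fin (Nat.card (ConjClasses G)) → ℕ :=
    fun i => Nat.card (Subgroup.centralizer ({rep (e i)} : Set G))
  have hsum : ∑ i, ((f i : ℚ))⁻¹ = 1 := by
    rw [Equiv.sum_comp e fun C => ((Nat.card (Subgroup.centralizer ({rep C} : Set G)) : ℚ))⁻¹]
    apply mul_left_cancel₀ (Nat.cast_ne_zero.mpr (Nat.card_pos (α := G)).ne' : (Nat.card G : ℚ) ≠ 0)
    rw [mul_one, Finset.mul_sum]
    conv_rhs => rw [Nat.card_eq_fintype_card, ← Finset.card_univ,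
      Finset.card_eq_sum_card_fiberwise (f := ConjClasses.mk (α := G)) (t := Finset.univ)
        (fun g _ => Finset.mem_univ _), Nat.cast_sum]
    refine Finset.sum_congr rfl fun C _ => ?_
    have h := CT.card_conj_class_mul_centralizer (rep C)
    rw [Nat.card_eq_fintype_card (α := {g // IsConj (rep C) g}), Fintype.card_subtype] at h
    have hset : Finset.univ.filter (fun g => ConjClasses.mk g = C) =
        Finset.univ.filter (fun g => IsConj (rep C) g) := by
      refine Finset.filter_congr fun g _ => ?_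
      conv_lhs => rw [← hrep C]
      exact ConjClasses.mk_eq_mk_iff_isConj.trans ⟨IsConj.symm, IsConj.symm⟩
    rw [hset, ← h, Nat.cast_mul, mul_inv_cancel_right₀]
    exact Nat.cast_ne_zero.mpr Nat.card_pos.ne'
  obtain ⟨i, hi⟩ : ∃ i, e i = ConjClasses.mk 1 := e.surjective _
  have h1 : rep (e i) = 1 := by
    have := ConjClasses.mk_eq_mk_iff_isConj.mp ((hrep (e i)).trans hi)
    exact isConj_one_left.mp this
  have h2 : f i = Nat.card G := by
    simp only [f, h1]
    rw [show Subgroup.centralizer ({1} : Set G) = ⊤ from Subgroup.eq_top_iff' _ |>.mpr fun x =>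
      Subgroup.mem_centralizer_singleton_iff.mpr (by simp), Subgroup.card_top]
  rw [← h2]
  exact (hN _ f (fun j => Nat.card_pos) hsum i).trans
    (Finset.le_sup (Finset.mem_range.mpr (Nat.lt_succ_of_le hk)))

end Cfsg.Agent.ClassSum
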