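import Cfsg.Agent.Lib.CT.Kernel
import Cfsg.Agent.Lib.ClassSum.Basic

/-!
# Codegrees of irreducible characters
-/

namespace Cfsg.Agent.ClassSum

open scoped ComplexConjugate
open Cfsg.Agent

universe u

variable {G : Type u} [Group G] [Finite G]

theorem kerChar_normal {χ : G → ℂ} (hχ : IsCharacter G χ) : (CT.kerChar χ).Normal := ⟨fun g hg c => by
  rw [CT.mem_kerChar_iff hχ] at hg ⊢
  rw [CT.isClassFunction_of_isCharacter hχ g c, hg]⟩

/-- The codegree `[G : ker χ] / χ(1)`. -/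
noncomputable def codeg (χ : G → ℂ) : ℕ :=
  Nat.card G / (Nat.card {g : G // χ g = χ 1} * charDegree χ)

theorem card_eq_one_set {χ : G → ℂ} (hχ : IsCharacter G χ) :
    Nat.card {g : G // χ g = χ 1} = Nat.card (CT.kerChar χ) :=
  Nat.card_congr (Equiv.subtypeEquivRight fun _ => (CT.mem_kerChar_iff hχ).symm)

/-- The degree divides the index of the kernel. -/
theorem deg_dvd_index_ker (χ : IrrCharacter G) :
    CT.deg (χ : G → ℂ) ∣ (CT.kerChar (χ : G → ℂ)).index := by
  haveI := kerChar_normal (CT.isCharacter_of_isIrr χ.2)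
  obtain ⟨ψ, hψ, he⟩ := CT.exists_quotient_irr χ.2 (CT.kerChar (χ : G → ℂ))
    fun n hn => (CT.mem_kerChar_iff (CT.isCharacter_of_isIrr χ.2)).mp hn
  haveI := Fintype.ofFinite (G ⧸ CT.kerChar (χ : G → ℂ))
  have h := degree_dvd_card (⟨ψ, hψ⟩ : IrrCharacter (G ⧸ CT.kerChar (χ : G → ℂ)))
  rw [← Subgroup.index_eq_card] at h
  have : CT.deg ψ = CT.deg (χ : G → ℂ) := by
    unfold CT.deg
    rw [← he 1, QuotientGroup.mk_one]
  rwa [this] at h

theorem codeg_eq (χ : IrrCharacter G) :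
    codeg (χ : G → ℂ) = (CT.kerChar (χ : G → ℂ)).index / CT.deg (χ : G → ℂ) := by
  rw [codeg, card_eq_one_set (CT.isCharacter_of_isIrr χ.2),
    ← (CT.kerChar (χ : G → ℂ)).card_mul_index]
  exact Nat.mul_div_mul_left _ _ Nat.card_pos

theorem codeg_mul_deg (χ : IrrCharacter G) :
    codeg (χ : G → ℂ) * CT.deg (χ : G → ℂ) = (CT.kerChar (χ : G → ℂ)).index := by
  rw [codeg_eq]
  exact Nat.div_mul_cancel (deg_dvd_index_ker χ)

theorem codeg_dvd_card (χ : IrrCharacter G) : codeg (χ : G → ℂ) ∣ Nat.card G :=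
  (Dvd.intro _ (codeg_mul_deg χ)).trans (Subgroup.index_dvd_card _)

theorem codeg_pos (χ : IrrCharacter G) : 0 < codeg (χ : G → ℂ) :=
  Nat.pos_of_ne_zero fun h => by
    have := codeg_mul_deg χ
    rw [h, Nat.zero_mul] at this
    exact (CT.kerChar (χ : G → ℂ)).index_ne_zero_of_finite this.symm

/-- Every prime dividing the order has a nontrivial character of degree prime to it. -/
theorem exists_ne_triv_not_dvd_deg {p : ℕ} (hp : p.Prime) (h : p ∣ Nat.card G) :
    ∃ χ : IrrCharacter G, χ ≠ CT.trivIrr G ∧ ¬ p ∣ CT.deg (χ : G → ℂ) := by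
  classical
  haveI := Fintype.ofFinite G
  by_contra hcon
  push Not at hcon
  have hsum : Nat.card G = ∑ χ : IrrCharacter G, CT.deg (χ : G → ℂ) ^ 2 := by
    have h := CT.sum_degree_sq (G := G)
    simp only [fun χ : IrrCharacter G => CT.deg_eq (CT.isCharacter_of_isIrr χ.2)] at h
    exact_mod_cast h.symm
  rw [hsum, ← Finset.add_sum_erase _ _ (Finset.mem_univ (CT.trivIrr G))] at h
  have h2 : p ∣ ∑ χ ∈ Finset.univ.erase (CT.trivIrr G), CT.deg (χ : G → ℂ) ^ 2 :=
    Finset.dvd_sum fun χ hχ => dvd_pow (hcon χ (Finset.ne_of_mem_erase hχ)) two_ne_zero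
  have h3 := (Nat.dvd_add_left h2).mp h
  have h1 : CT.deg (CT.trivIrr G : G → ℂ) = 1 := by simp [CT.deg]
  rw [h1, one_pow] at h3
  exact hp.not_dvd_one h3

/-- A faithful character with `|G| = p * χ(1)`, `p` prime: `χ(1) < p` and the Sylow p-subgroup
is normal of order `p`. -/
theorem exists_normal_of_card_eq_prime_mul {p : ℕ} (hp : p.Prime) (χ : IrrCharacter G)
    (hfaith : ∀ g : G, (χ : G → ℂ) g = (χ : G → ℂ) 1 → g = 1)
    (hcard : Nat.card G = p * CT.deg (χ : G → ℂ)) :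
    CT.deg (χ : G → ℂ) < p ∧ ∃ P : Subgroup G, P.Normal ∧ Nat.card P = p := by
  classical
  haveI := Fintype.ofFinite G
  haveI := Fact.mk hp
  set d := CT.deg (χ : G → ℂ) with hd
  have hd0 : 0 < d := CT.deg_pos χ.2
  have h2 : 2 ≤ Nat.card G := hcard ▸ le_trans hp.two_le (Nat.le_mul_of_pos_right p hd0)
  have hne : χ ≠ CT.trivIrr G := by
    intro e
    haveI : Nontrivial G := Finite.one_lt_card_iff_nontrivial.mp h2
    obtain ⟨g, hg⟩ := exists_ne (1 : G)
    exact hg (hfaith g (by rw [e]; rfl))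
  have hlt : d < p := by
    have h := CT.sum_degree_sq (G := G)
    simp only [fun χ : IrrCharacter G => CT.deg_eq (CT.isCharacter_of_isIrr χ.2)] at h
    have h' : ∑ ψ : IrrCharacter G, CT.deg (ψ : G → ℂ) ^ 2 = Nat.card G := by exact_mod_cast h
    have h3 : ∑ ψ ∈ ({χ, CT.trivIrr G} : Finset (IrrCharacter G)), CT.deg (ψ : G → ℂ) ^ 2 ≤
        p * d := hcard ▸ h' ▸ Finset.sum_le_sum_of_subset (Finset.subset_univ _)
    rw [Finset.sum_pair hne] at h3
    have h1 : CT.deg (CT.trivIrr G : G → ℂ) = 1 := by simp [CT.deg]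
    rw [h1, ← hd] at h3
    nlinarith
  refine ⟨hlt, ?_⟩
  obtain ⟨P⟩ := (inferInstance : Nonempty (Sylow p G))
  have hP : Nat.card P = p := by
    rw [P.card_eq_multiplicity, hcard, Nat.factorization_mul hp.ne_zero hd0.ne',
      Finsupp.add_apply, hp.factorization_self,
      Nat.factorization_eq_zero_of_not_dvd fun h => absurd (Nat.le_of_dvd hd0 h) (not_le.mpr hlt),
      add_zero, pow_one]
  have hidx : (P : Subgroup G).index = d := by
    have h := (P : Subgroup G).card_mul_index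
    rw [hP, hcard] at h
    exact Nat.eq_of_mul_eq_mul_left hp.pos h
  have hn : Nat.card (Sylow p G) = 1 := by
    have hdvd : Nat.card (Sylow p G) ∣ d := hidx ▸ P.card_dvd_index
    have hle := lt_of_le_of_lt (Nat.le_of_dvd hd0 hdvd) hlt
    have h := card_sylow_modEq_one p G
    exact Nat.ModEq.eq_of_lt_of_lt h hle hp.one_lt
  haveI : Subsingleton (Sylow p G) := (Nat.card_eq_one_iff_unique.mp hn).1
  exact ⟨P, P.normal_of_subsingleton, hP⟩

end Cfsg.Agent.ClassSum
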