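import Cfsg.Agent.Lib.Basics.Cores
import Cfsg.Agent.Lib.CT.Orthogonality
import Cfsg.Agent.Lib.Invol.Basic
import Mathlib.GroupTheory.SchurZassenhaus
import Mathlib.GroupTheory.Nilpotent

/-!
# Groups with involution centralizers of bounded order

If a finite group contains a four-group all of whose involutions have centralizers of order at
most `c`, its order is bounded in terms of `c` and the exponent of `2` in its order.
-/

namespace Cfsg.Agent.BoundedCent

open Cfsg Cfsg.Agent

universe u

/-- The fixed subgroup of an automorphism. -/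
def fix {Q : Type u} [Group Q] (α : Q ≃* Q) : Subgroup Q where
  carrier := {g | α g = g}
  one_mem' := map_one α
  mul_mem' := fun {a b} ha hb => by
    show α (a * b) = a * b
    rw [map_mul, show α a = a from ha, show α b = b from hb]
  inv_mem' := fun {a} ha => by
    show α a⁻¹ = a⁻¹
    rw [map_inv, show α a = a from ha]

theorem mem_fix {Q : Type u} [Group Q] {α : Q ≃* Q} {g : Q} : g ∈ fix α ↔ α g = g := Iff.rfl

/-- The automorphism of the center induced by an automorphism. -/
def centerAut {Q : Type u} [Group Q] (α : Q ≃* Q) : Subgroup.center Q ≃* Subgroup.center Q :=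
  (α.subgroupMap (Subgroup.center Q)).trans
    (MulEquiv.subgroupCongr (Subgroup.characteristic_iff_map_eq.mp inferInstance α))

@[simp] theorem coe_centerAut {Q : Type u} [Group Q] (α : Q ≃* Q) (z : Subgroup.center Q) :
    ((centerAut α z : Subgroup.center Q) : Q) = α z := rfl

/-- Two commuting involutory automorphisms of a nilpotent group of odd order. -/
theorem card_le_prod_fix {q₀ : ℕ} [hq₀ : Fact q₀.Prime] (n : ℕ) : ∀ (Q : Type u) [Group Q] [Finite Q],
    IsPGroup q₀ Q → Nat.card Q ≤ n → Odd (Nat.card Q) → ∀ α β : Q ≃* Q, (∀ g, α (α g) = g) → (∀ g, β (β g) = g) →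
    (∀ g, α (β g) = β (α g)) →
    Nat.card Q ≤ Nat.card (fix α) * Nat.card (fix β) * Nat.card (fix (β.trans α)) := by
  induction n with
  | zero =>
    intro Q _ _ _ h
    have := Nat.card_pos (α := Q)
    omega
  | succ n ih =>
  intro Q _ _ hQp hn hodd α β hα hβ hαβ
  have hsq : ∀ g : Q, g * g = 1 → g = 1 := by
    intro g hg
    have h1 : orderOf g ∣ 2 := orderOf_dvd_of_pow_eq_one (by rw [pow_two, hg])
    have h2 : Odd (orderOf g) := hodd.of_dvd_nat (orderOf_dvd_natCard g)
    rcases (Nat.dvd_prime Nat.prime_two).mp h1 with h | h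
    · exact orderOf_eq_one_iff.mp h
    · rw [h] at h2
      exact absurd h2 (by decide)
  by_cases hcomm : ∀ a b : Q, a * b = b * a
  · have hx : ∀ g : Q, g * α g ∈ fix α ∧ g * β g ∈ fix β ∧ g * α (β g) ∈ fix (β.trans α) := by
      intro g
      refine ⟨?_, ?_, ?_⟩
      · rw [mem_fix, map_mul, hα, hcomm]
      · rw [mem_fix, map_mul, hβ, hcomm]
      · rw [mem_fix, MulEquiv.trans_apply, map_mul, map_mul, hcomm (α (β g)),
          hαβ g, hβ, hα]
    let f : Q → fix α × fix β × fix (β.trans α) :=
      fun g => (⟨_, (hx g).1⟩, ⟨_, (hx g).2.1⟩, ⟨_, (hx g).2.2⟩)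
    have hf : Function.Injective f := by
      intro g h he
      simp only [f, Prod.mk.injEq, Subtype.mk.injEq] at he
      obtain ⟨h1, h2, h3⟩ := he
      set k := g * h⁻¹ with hk
      have key : ∀ γ : Q ≃* Q, g * γ g = h * γ h → γ k = k⁻¹ := by
        intro γ hγ
        rw [hk, map_mul, map_inv, mul_inv_rev, inv_inv,
          eq_inv_mul_iff_mul_eq.mpr hγ, hcomm h g⁻¹]
        group
      have e1 := key α h1
      have e2 := key β h2
      have e3 := key (β.trans α) h3
      rw [MulEquiv.trans_apply, e2, map_inv, e1, inv_inv] at e3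
      have := hsq k (by nth_rewrite 2 [e3]; exact mul_inv_cancel k)
      exact mul_inv_eq_one.mp this
    refine (Nat.card_le_card_of_injective f hf).trans ?_
    rw [Nat.card_prod, Nat.card_prod, mul_assoc]
  · haveI : Nontrivial Q := by
      by_contra h
      rw [not_nontrivial_iff_subsingleton] at h
      exact hcomm fun a b => Subsingleton.elim _ _
    set Z := Subgroup.center Q
    have hZ1 : Z ≠ ⊥ := fun h => by
      have := hQp.center_nontrivial
      rw [show Subgroup.center Q = ⊥ from h] at this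
      exact not_subsingleton _ (inferInstance : Subsingleton (⊥ : Subgroup Q))
    have hmap : ∀ γ : Q ≃* Q, Z.map (γ : Q →* Q) = Z :=
      fun γ => Subgroup.characteristic_iff_map_eq.mp inferInstance γ
    have hcard : Nat.card (Q ⧸ Z) * Nat.card Z = Nat.card Q :=
      Z.index_mul_card
    have h1Z : 1 < Nat.card Z := (Subgroup.one_lt_card_iff_ne_bot Z).mpr hZ1
    have hlt : Nat.card (Q ⧸ Z) ≤ n := by
      have : Nat.card (Q ⧸ Z) < Nat.card Q := by
        rw [← hcard]
        exact lt_mul_of_one_lt_right Nat.card_pos h1Z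
      omega
    have hZn : Nat.card Z ≤ n := by
      have : Nat.card Z < Nat.card Q := by
        refine lt_of_le_of_ne (Subgroup.card_le_card_group Z) fun h => hcomm fun a b => ?_
        have ht : Z = ⊤ := Subgroup.eq_top_of_card_eq Z h
        exact (Subgroup.mem_center_iff.mp (ht ▸ Subgroup.mem_top a : a ∈ Z) b).symm
      omega
    let q : (Q ≃* Q) → (Q ⧸ Z) ≃* (Q ⧸ Z) := fun γ => QuotientGroup.congr Z Z γ (hmap γ)
    have hq : ∀ (γ : Q ≃* Q) (g : Q), q γ g = ((γ g : Q) : Q ⧸ Z) :=
      fun γ g => QuotientGroup.congr_mk Z Z γ (hmap γ) g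
    have hqfix : ∀ γ : Q ≃* Q, (∀ g, γ (γ g) = g) →
        Nat.card (fix (q γ)) * Nat.card (fix (centerAut γ)) ≤ Nat.card (fix γ) := by
      intro γ hγ
      have hlift : ∀ x : fix (q γ), ∃ c : fix γ, ((c : Q) : Q ⧸ Z) = (x : Q ⧸ Z) := by
        rintro ⟨x, hx⟩
        obtain ⟨g, rfl⟩ := QuotientGroup.mk_surjective x
        rw [mem_fix, hq, QuotientGroup.eq] at hx
        -- k = (γ g)⁻¹ g is central and inverted; correct g by a square root
        set k := (γ g)⁻¹ * g with hk
        have hkinv : γ k = k⁻¹ := by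
          rw [hk, map_mul, map_inv, hγ, mul_inv_rev, inv_inv]
        obtain ⟨j, hj⟩ := hodd.of_dvd_nat (orderOf_dvd_natCard k)
        have hkZ : k ∈ Z := hx
        have hpow : k ^ j ∈ Z := Z.pow_mem hkZ j
        refine ⟨⟨g * k ^ j, ?_⟩, ?_⟩
        · rw [mem_fix, map_mul, map_pow, hkinv, inv_pow]
          have e : γ g = g * k⁻¹ := by rw [hk]; group
          rw [e, mul_assoc]
          congr 1
          rw [← mul_inv_rev, inv_eq_iff_mul_eq_one, ← pow_succ, ← pow_add, ← orderOf_dvd_iff_pow_eq_one, hj]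
          exact dvd_of_eq (by ring)
        · rw [QuotientGroup.eq, show (g * k ^ j)⁻¹ * g = (k ^ j)⁻¹ by group]
          exact Z.inv_mem hpow
      choose c hc using hlift
      let f : fix (q γ) × fix (centerAut γ) → fix γ := fun x =>
        c x.1 * ⟨((x.2 : Z) : Q), by
          have := congrArg Subtype.val (mem_fix.mp x.2.2)
          rwa [coe_centerAut] at this⟩
      rw [← Nat.card_prod]
      refine Nat.card_le_card_of_injective f fun x y h => ?_
      have h' := congrArg (fun z : fix γ => (((z : Q)) : Q ⧸ Z)) h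
      simp only [f, Subgroup.coe_mul, QuotientGroup.mk_mul] at h'
      rw [(QuotientGroup.eq_one_iff _).mpr (x.2 : Z).2, (QuotientGroup.eq_one_iff _).mpr (y.2 : Z).2,
        mul_one, mul_one, hc, hc] at h'
      have h1 : x.1 = y.1 := Subtype.ext h'
      refine Prod.ext h1 ?_
      simp only [f, h1, mul_right_inj, Subtype.mk.injEq] at h
      exact Subtype.ext (Subtype.ext (congrArg (fun z : fix γ => (z : Q)) h :))
    have i1 := ih (Q ⧸ Z) (hQp.to_quotient Z) hlt (hodd.of_dvd_nat ⟨_, hcard.symm⟩) (q α) (q β)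
      (fun x => by obtain ⟨g, rfl⟩ := QuotientGroup.mk_surjective x; rw [hq, hq, hα])
      (fun x => by obtain ⟨g, rfl⟩ := QuotientGroup.mk_surjective x; rw [hq, hq, hβ])
      (fun x => by
        obtain ⟨g, rfl⟩ := QuotientGroup.mk_surjective x
        rw [hq, hq, hq, hq, hαβ])
    have i2 := ih Z (hQp.to_subgroup Z) hZn (hodd.of_dvd_nat ⟨_, (by rw [mul_comm]; exact hcard.symm)⟩)
      (centerAut α) (centerAut β)
      (fun z => Subtype.ext (by rw [coe_centerAut, coe_centerAut]; exact hα _))
      (fun z => Subtype.ext (by rw [coe_centerAut, coe_centerAut]; exact hβ _))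
      (fun z => Subtype.ext (by
        rw [coe_centerAut, coe_centerAut, coe_centerAut, coe_centerAut]; exact hαβ _))
    have e1 : fix ((q β).trans (q α)) = fix (q (β.trans α)) := by
      ext x
      obtain ⟨g, rfl⟩ := QuotientGroup.mk_surjective x
      simp [mem_fix, hq]
    have e2 : fix ((centerAut β).trans (centerAut α)) = fix (centerAut (β.trans α)) := by
      ext z
      simp [mem_fix, Subtype.ext_iff]
    rw [e1] at i1
    rw [e2] at i2
    have hγ : ∀ g, (β.trans α) ((β.trans α) g) = g := fun g => by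
      simp only [MulEquiv.trans_apply]
      rw [← hαβ (β g), hβ, hα]
    have t1 := hqfix α hα
    have t2 := hqfix β hβ
    have t3 := hqfix _ hγ
    calc Nat.card Q = Nat.card (Q ⧸ Z) * Nat.card Z := hcard.symm
      _ ≤ (Nat.card (fix (q α)) * Nat.card (fix (q β)) * Nat.card (fix (q (β.trans α)))) *
          (Nat.card (fix (centerAut α)) * Nat.card (fix (centerAut β)) *
            Nat.card (fix (centerAut (β.trans α)))) := Nat.mul_le_mul i1 i2
      _ = (Nat.card (fix (q α)) * Nat.card (fix (centerAut α))) *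
          (Nat.card (fix (q β)) * Nat.card (fix (centerAut β))) *
          (Nat.card (fix (q (β.trans α))) * Nat.card (fix (centerAut (β.trans α)))) := by ring
      _ ≤ _ := Nat.mul_le_mul (Nat.mul_le_mul t1 t2) t3

/-- Conjugation by a normalizing element. -/
def conjAut {G : Type u} [Group G] (Q : Subgroup G) {a : G}
    (ha : a ∈ Subgroup.normalizer (Q : Set G)) : Q ≃* Q :=
  ((MulAut.conj a).subgroupMap Q).trans (MulEquiv.subgroupCongr (by
    ext y
    rw [Subgroup.mem_map]
    constructor
    · rintro ⟨x, hx, rfl⟩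
      exact (Subgroup.mem_normalizer_iff.mp ha x).mp hx
    · intro hy
      refine ⟨a⁻¹ * y * a, ?_, by simp [mul_assoc]⟩
      exact (Subgroup.mem_normalizer_iff.mp ha _).mpr (by simpa [mul_assoc] using hy)))

theorem coe_conjAut {G : Type u} [Group G] (Q : Subgroup G) {a : G}
    (ha : a ∈ Subgroup.normalizer (Q : Set G)) (g : Q) :
    ((conjAut Q ha g : Q) : G) = a * g * a⁻¹ := rfl

theorem card_fix_conjAut_le {G : Type u} [Group G] [Finite G] (Q : Subgroup G) {a : G}
    (ha : a ∈ Subgroup.normalizer (Q : Set G)) :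
    Nat.card (fix (conjAut Q ha)) ≤ Nat.card (Subgroup.centralizer ({a} : Set G)) := by
  refine Nat.card_le_card_of_injective (fun g => ⟨((g : Q) : G), ?_⟩) fun x y h =>
    Subtype.ext (Subtype.ext (Subtype.mk.injEq .. ▸ h))
  have h := congrArg Subtype.val (mem_fix.mp g.2)
  rw [coe_conjAut, mul_inv_eq_iff_eq_mul] at h
  exact Subgroup.mem_centralizer_singleton_iff.mpr h.symm

/-- A four-group bounds the odd core through its centralizers. -/
theorem card_pPrimeCore_le {G : Type u} [Group G] [Finite G] {a b : G} (ha : orderOf a = 2)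
    (hb : orderOf b = 2) (hab : a * b = b * a) (hne : a ≠ b) (c : ℕ)
    (hca : Nat.card (Subgroup.centralizer ({a} : Set G)) ≤ c)
    (hcb : Nat.card (Subgroup.centralizer ({b} : Set G)) ≤ c)
    (hcab : Nat.card (Subgroup.centralizer ({a * b} : Set G)) ≤ c) :
    Nat.card (pPrimeCore 2 G) ≤ (c ^ 3) ^ (c + 1) := by
  classical
  set O := pPrimeCore 2 G
  haveI : O.Normal := Basics.pPrimeCore_normal 2
  have hOodd : Odd (Nat.card O) := Nat.coprime_two_right.mp (Basics.pPrimeCore_coprime 2)
  set E : Subgroup G := Subgroup.closure {a, b} with hE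
  have haE : a ∈ E := Subgroup.subset_closure (by simp)
  have hbE : b ∈ E := Subgroup.subset_closure (by simp)
  have hEp : IsPGroup 2 E := by
    haveI : IsMulCommutative E := Subgroup.isMulCommutative_closure (by
      intro x hx y hy
      rcases hx with rfl | rfl <;> rcases hy with rfl | rfl <;> first | rfl | exact hab | exact hab.symm)
    intro g
    refine ⟨1, Subtype.ext ?_⟩
    obtain ⟨g, hg⟩ := g
    induction hg using Subgroup.closure_induction with
    | mem x hx =>
      rcases hx with rfl | rfl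
      · simpa [← ha] using pow_orderOf_eq_one x
      · simpa [← hb] using pow_orderOf_eq_one x
    | one => simp
    | mul x y hx hy ix iy =>
      have hc : Commute x y := congrArg Subtype.val (mul_comm' (⟨x, hx⟩ : E) ⟨y, hy⟩)
      simp only [SubmonoidClass.coe_pow, OneMemClass.coe_one] at ix iy ⊢
      rw [hc.mul_pow, ix, iy, one_mul]
    | inv x hx ix =>
      simp only [SubmonoidClass.coe_pow, OneMemClass.coe_one] at ix ⊢
      rw [inv_pow, ix, inv_one]
  have hq : ∀ q : ℕ, q.Prime → q ∣ Nat.card O →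
      q ^ (Nat.card O).factorization q ≤ c ^ 3 ∧ q ≤ c := by
    intro q hq hqO
    haveI := Fact.mk hq
    haveI : Fact (Nat.Prime 2) := ⟨Nat.prime_two⟩
    -- an invariant Sylow subgroup
    let act : MulAction E (Sylow q O) :=
      MulAction.compHom _ ((MulAut.conjNormal (H := O)).comp E.subtype)
    letI := act
    have h2 : ¬ 2 ∣ Nat.card (Sylow q O) := fun h => by
      have := (dvd_trans h ((Classical.arbitrary (Sylow q O)).card_dvd_index)).trans
        (Subgroup.index_dvd_card _)
      exact (Nat.not_even_iff_odd.mpr hOodd) (even_iff_two_dvd.mpr this)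
    obtain ⟨S, hS⟩ := hEp.nonempty_fixed_point_of_prime_not_dvd_card (Sylow q O) h2
    set Q : Subgroup G := (S : Subgroup O).map O.subtype with hQ
    have hnorm : ∀ e ∈ E, e ∈ Subgroup.normalizer (Q : Set G) := by
      intro e he
      have hfix := hS ⟨e, he⟩
      have h3 : ∀ x ∈ Q, e * x * e⁻¹ ∈ Q := by
        rintro _ ⟨x, hx, rfl⟩
        refine ⟨MulAut.conjNormal e x, ?_, by simp⟩
        have h4 := congrArg (fun T : Sylow q O => (T : Subgroup O)) hfix
        rw [← h4]
        exact Subgroup.smul_mem_pointwise_smul x (MulAut.conjNormal e) _ hx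
      refine Subgroup.mem_normalizer_iff.mpr fun x => ⟨h3 x, fun hx => ?_⟩
      have hfix' := hS ⟨e⁻¹, E.inv_mem he⟩
      obtain ⟨y, hy, hye⟩ := hx
      refine ⟨MulAut.conjNormal e⁻¹ y, ?_, ?_⟩
      · have h4 := congrArg (fun T : Sylow q O => (T : Subgroup O)) hfix'
        rw [← h4]
        exact Subgroup.smul_mem_pointwise_smul y (MulAut.conjNormal e⁻¹) _ hy
      · simp only [Subgroup.coe_subtype] at hye ⊢
        rw [MulAut.conjNormal_apply, hye]
        group
    have hQcard : Nat.card Q = q ^ (Nat.card O).factorization q := by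
      rw [hQ, Subgroup.card_map_of_injective O.subtype_injective, S.card_eq_multiplicity]
    have hQp : IsPGroup q Q := S.isPGroup'.map O.subtype
    have hQodd : Odd (Nat.card Q) := by
      rw [hQcard]
      exact (hOodd.of_dvd_nat hqO).pow
    have hinv : ∀ (e : G) (he : e ∈ Subgroup.normalizer (Q : Set G)), e * e = 1 →
        ∀ g, conjAut Q he (conjAut Q he g) = g := fun e he h2 g => Subtype.ext (by
      rw [coe_conjAut, coe_conjAut, show e * (e * g * e⁻¹) * e⁻¹ = e * e * g * (e * e)⁻¹ by group,
        h2]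
      group)
    have ha' := hnorm a haE
    have hb' := hnorm b hbE
    have hab' := hnorm (a * b) (E.mul_mem haE hbE)
    have hbound := card_le_prod_fix (Nat.card Q) Q hQp le_rfl hQodd (conjAut Q ha') (conjAut Q hb')
      (hinv a ha' (Invol.mul_self_of_orderOf_two ha)) (hinv b hb' (Invol.mul_self_of_orderOf_two hb))
      (fun g => Subtype.ext (by
        simp only [coe_conjAut]
        rw [show a * (b * (g : G) * b⁻¹) * a⁻¹ = (a * b) * g * (a * b)⁻¹ by group,
          show b * (a * (g : G) * a⁻¹) * b⁻¹ = (b * a) * g * (b * a)⁻¹ by group, hab]))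
    have e3 : (conjAut Q hb').trans (conjAut Q ha') = conjAut Q hab' := by
      ext g
      simp [coe_conjAut, mul_assoc]
    rw [e3] at hbound
    have l1 := (card_fix_conjAut_le Q ha').trans hca
    have l2 := (card_fix_conjAut_le Q hb').trans hcb
    have l3 := (card_fix_conjAut_le Q hab').trans hcab
    refine ⟨hQcard ▸ hbound.trans (by
      calc _ ≤ c * c * c := Nat.mul_le_mul (Nat.mul_le_mul l1 l2) l3
        _ = c ^ 3 := by ring), ?_⟩
    -- some fixed subgroup is nontrivial
    by_contra hlt
    push Not at hlt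
    have hone : ∀ (e : G) (he : e ∈ Subgroup.normalizer (Q : Set G)),
        Nat.card (Subgroup.centralizer ({e} : Set G)) ≤ c → Nat.card (fix (conjAut Q he)) = 1 := by
      intro e he hle
      obtain ⟨j, -, hj⟩ := (Nat.dvd_prime_pow hq).mp
        (hQcard ▸ Subgroup.card_subgroup_dvd_card (fix (conjAut Q he)))
      have := (card_fix_conjAut_le Q he).trans hle
      rw [hj] at this ⊢
      rcases Nat.eq_zero_or_pos j with rfl | hpos
      · simp
      · have := Nat.le_self_pow hpos.ne' q
        omega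
    rw [hone a ha' hca, hone b hb' hcb, hone _ hab' hcab, hQcard] at hbound
    have h1 := (hq.factorization_pos_of_dvd Nat.card_pos.ne' hqO)
    have := Nat.le_self_pow h1.ne' q
    have := hq.two_le
    omega
  have hc0 : 1 ≤ c ^ 3 := Nat.one_le_pow _ _ (lt_of_lt_of_le Nat.card_pos hca)
  conv_lhs => rw [← Nat.prod_factorization_pow_eq_self (n := Nat.card O) Nat.card_pos.ne']
  rw [Finsupp.prod, Nat.support_factorization]
  refine (Finset.prod_le_pow_card _ _ (c ^ 3) fun q hqmem => ?_).trans
    (Nat.pow_le_pow_right hc0 ?_)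
  · exact (hq q (Nat.prime_of_mem_primeFactors hqmem) (Nat.dvd_of_mem_primeFactors hqmem)).1
  · refine (Finset.card_le_card fun q hqmem => Finset.mem_range.mpr ?_).trans_eq
      (Finset.card_range (c + 1))
    have := (hq q (Nat.prime_of_mem_primeFactors hqmem) (Nat.dvd_of_mem_primeFactors hqmem)).2
    omega

/-- Brauer–Fowler: a small class or a small group. -/
theorem exists_small_class {G : Type u} [Group G] [Finite G] {t : G} (ht : t * t = 1) (c : ℕ)
    (hc : Nat.card (Subgroup.centralizer ({t} : Set G)) ≤ c) :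
    Nat.card G ≤ 2 * c ∨ ∃ x : G, x ≠ 1 ∧ Nat.card {g : G // IsConj x g} ≤ 2 * c ^ 2 := by
  classical
  haveI := Fintype.ofFinite G
  by_contra h
  push Not at h
  obtain ⟨hbig, hcls⟩ := h
  set K : Finset G := Finset.univ.filter fun g => IsConj t g
  set n := K.card
  have hn : n * Nat.card (Subgroup.centralizer ({t} : Set G)) = Nat.card G := by
    rw [← CT.card_conj_class_mul_centralizer t, Nat.card_eq_fintype_card (α := {g // IsConj t g}),
      Fintype.card_subtype]
  have hKsq : ∀ g ∈ K, g * g = 1 := fun g hg => by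
    obtain ⟨d, rfl⟩ := isConj_iff.mp (Finset.mem_filter.mp hg).2
    rw [conj_mul, ht, mul_one, mul_inv_cancel]
  set D : Finset (G × G) := (K ×ˢ K).filter fun q => q.1 * q.2 ≠ 1
  have hD : n * n ≤ D.card + n := by
    rw [← Finset.card_product]
    refine le_of_eq_of_le (Finset.card_filter_add_card_filter_not (fun q : G × G => q.1 * q.2 ≠ 1)).symm
      (Nat.add_le_add_left ?_ _)
    refine Finset.card_le_card_of_injOn Prod.fst
      (fun q hq => (Finset.mem_product.mp (Finset.mem_filter.mp hq).1).1) fun q hq q' hq' h => ?_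
    have e1 := not_not.mp (Finset.mem_filter.mp hq).2
    have e2 := not_not.mp (Finset.mem_filter.mp hq').2
    exact Prod.ext h (mul_left_cancel (e1.trans (e2.symm.trans (by rw [h]))))
  set m := 2 * c ^ 2 with hm
  have hfib : ∀ x : G, m * (D.filter fun q => q.1 * q.2 = x).card ≤ Nat.card G := by
    intro x
    rcases (D.filter fun q => q.1 * q.2 = x).eq_empty_or_nonempty with h0 | ⟨⟨a₀, b₀⟩, h0⟩
    · simp [h0]
    · simp only [D, Finset.mem_filter, Finset.mem_product] at h0
      obtain ⟨⟨⟨ha₀, hb₀⟩, hne⟩, hx⟩ := h0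
      have h1 : (D.filter fun q => q.1 * q.2 = x).card ≤
          Nat.card (Subgroup.centralizer ({x} : Set G)) := by
        rw [← Fintype.card_coe, ← Nat.card_eq_fintype_card]
        refine Nat.card_le_card_of_injective (fun q => ⟨a₀ * q.1.1, ?_⟩) fun q q' h => ?_
        · obtain ⟨⟨a, b⟩, hq⟩ := q
          simp only [D, Finset.mem_filter, Finset.mem_product] at hq
          obtain ⟨⟨⟨ha, hb⟩, -⟩, hab⟩ := hq
          refine Subgroup.mem_centralizer_singleton_iff.mpr ?_
          have i1 : a * x * a⁻¹ = x⁻¹ := by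
            rw [← hab]; exact Invol.conj_mul_eq_inv (hKsq a ha) (hKsq b hb)
          have i2 : a₀ * x * a₀⁻¹ = x⁻¹ := by
            rw [← hx]; exact Invol.conj_mul_eq_inv (hKsq a₀ ha₀) (hKsq b₀ hb₀)
          calc a₀ * a * x = a₀ * (a * x * a⁻¹) * a := by group
            _ = a₀ * x⁻¹ * a₀⁻¹ * (a₀ * a) := by rw [i1]; group
            _ = (a₀ * x * a₀⁻¹)⁻¹ * (a₀ * a) := by group
            _ = x * (a₀ * a) := by rw [i2, inv_inv]
        · have e := mul_left_cancel (congrArg Subtype.val h)
          refine Subtype.ext (Prod.ext e ?_)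
          have h2 := (Finset.mem_filter.mp q.2).2
          have h3 := (Finset.mem_filter.mp q'.2).2
          rw [e] at h2
          exact mul_left_cancel (h2.trans h3.symm)
      have hx1 : x ≠ 1 := fun e => hne (hx.trans e)
      rw [← CT.card_conj_class_mul_centralizer x]
      exact Nat.mul_le_mul (hcls x hx1).le h1
  have hsum : m * D.card ≤ Nat.card G * Nat.card G := by
    rw [Finset.card_eq_sum_card_fiberwise (f := fun q : G × G => q.1 * q.2) (t := Finset.univ)
      (fun q _ => Finset.mem_univ _), Finset.mul_sum]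
    refine (Finset.sum_le_sum fun x _ => hfib x).trans ?_
    simp [Finset.card_univ, Nat.card_eq_fintype_card]
  have hGn : Nat.card G ≤ n * c := hn ▸ Nat.mul_le_mul_left n hc
  have h3 : n * n ≤ 2 * n := by
    have h4 : m * D.card ≤ (n * c) * (n * c) := hsum.trans (Nat.mul_le_mul hGn hGn)
    have hc0 : 0 < c := lt_of_lt_of_le Nat.card_pos hc
    have h5 : 2 * D.card ≤ n * n := by
      refine Nat.le_of_mul_le_mul_left ?_ (pow_pos hc0 2)
      rw [hm] at h4
      calc c ^ 2 * (2 * D.card) = 2 * c ^ 2 * D.card := by ring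
        _ ≤ (n * c) * (n * c) := h4
        _ = c ^ 2 * (n * n) := by ring
    omega
  rcases Nat.eq_zero_or_pos n with h0 | hpos
  · rw [h0, zero_mul] at hGn
    have := Nat.card_pos (α := G)
    omega
  · have h6 : n ≤ 2 := Nat.le_of_mul_le_mul_right h3 hpos
    exact absurd (hGn.trans (Nat.mul_le_mul_right c h6)) (not_le.mpr hbig)

theorem card_centralizer_mk_le {G : Type u} [Group G] [Finite G] (R : Subgroup G) [R.Normal]
    (u : G) :
    Nat.card (Subgroup.centralizer ({(u : G ⧸ R)} : Set (G ⧸ R))) ≤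
      Nat.card R * Nat.card (Subgroup.centralizer ({u} : Set G)) := by
  classical
  set X : Subgroup G := (Subgroup.centralizer ({(u : G ⧸ R)} : Set (G ⧸ R))).comap (QuotientGroup.mk' R)
  have hX : Nat.card X ≤ Nat.card R * Nat.card (Subgroup.centralizer ({u} : Set G)) := by
    let g₀ : X → R := fun g => ⟨(g : G) * u * (g : G)⁻¹ * u⁻¹, by
      rw [← QuotientGroup.eq_one_iff]
      have h := Subgroup.mem_centralizer_singleton_iff.mp (Subgroup.mem_comap.mp g.2)
      simp only [QuotientGroup.coe_mk', QuotientGroup.mk'_apply] at h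
      simp only [QuotientGroup.mk_mul, QuotientGroup.mk_inv]
      rw [h]
      group⟩
    have hsec : ∀ r : R, ∃ s : G, (∃ g : X, g₀ g = r) → ∃ g : X, g₀ g = r ∧ (g : G) = s := by
      intro r
      by_cases h : ∃ g : X, g₀ g = r
      · obtain ⟨g, hg⟩ := h
        exact ⟨g, fun _ => ⟨g, hg, rfl⟩⟩
      · exact ⟨1, fun h' => absurd h' h⟩
    choose s hs using hsec
    rw [← Nat.card_prod]
    refine Nat.card_le_card_of_injective
      (fun g => (g₀ g, ⟨(s (g₀ g))⁻¹ * (g : G), ?_⟩)) fun g g' h => ?_
    · obtain ⟨g', hg', hgs⟩ := hs (g₀ g) ⟨g, rfl⟩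
      have e := congrArg (fun r : R => (r : G)) hg'
      simp only [g₀, mul_left_inj] at e
      rw [← hgs]
      refine Subgroup.mem_centralizer_singleton_iff.mpr ?_
      calc (g' : G)⁻¹ * g * u = (g' : G)⁻¹ * ((g : G) * u * (g : G)⁻¹) * g := by group
        _ = (g' : G)⁻¹ * ((g' : G) * u * (g' : G)⁻¹) * g := by rw [e]
        _ = u * ((g' : G)⁻¹ * g) := by group
    · simp only [Prod.mk.injEq, Subtype.mk.injEq] at h
      rw [h.1] at h
      exact Subtype.ext (mul_left_cancel h.2)
  have := (Basics.card_comap_mk' (N := R) (Subgroup.centralizer ({(u : G ⧸ R)} : Set (G ⧸ R)))).symm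
  refine le_trans ?_ hX
  rw [show Nat.card X = _ from this.symm]
  exact Nat.le_mul_of_pos_left _ Nat.card_pos

theorem odd_normal_trivial {G : Type u} [Group G] [Finite G] (hO : pPrimeCore 2 G = ⊥)
    (N : Subgroup G) [N.Normal] (hN : Odd (Nat.card N)) : N = ⊥ :=
  le_bot_iff.mp (hO ▸ Basics.le_pPrimeCore (Nat.coprime_two_right.mpr hN))

/-- Without odd core, one involution centralizer bounds the order. -/
theorem exists_bound_of_core_trivial (a : ℕ) : ∀ c : ℕ, ∃ N : ℕ,
    ∀ (G : Type u) [Group G] [Finite G], (Nat.card G).factorization 2 ≤ a → pPrimeCore 2 G = ⊥ →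
      ∀ t : G, orderOf t = 2 → Nat.card (Subgroup.centralizer ({t} : Set G)) ≤ c →
        Nat.card G ≤ N := by
  induction a with
  | zero =>
    intro c
    refine ⟨0, fun G _ _ ha _ t ht => absurd ha ?_⟩
    have := Nat.prime_two.factorization_pos_of_dvd Nat.card_pos.ne'
      (ht ▸ orderOf_dvd_natCard t : 2 ∣ Nat.card G)
    omega
  | succ a ih =>
  intro c
  set ℓ := Nat.factorial (2 * c ^ 2) * 2 ^ (a + 1)
  obtain ⟨N₁, hN₁⟩ := ih (ℓ * c)
  refine ⟨2 * c + c * ℓ + ℓ * N₁, fun G _ _ ha hO t ht hct => ?_⟩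
  classical
  haveI := Fintype.ofFinite G
  rcases exists_small_class (Invol.mul_self_of_orderOf_two ht) c hct with h | ⟨x, hx1, hx⟩
  · omega
  set L := Subgroup.normalClosure ({x} : Set G) with hL
  have hxL : x ∈ L := Subgroup.subset_normalClosure rfl
  set C := Subgroup.centralizer (L : Set G)
  haveI : C.Normal := Subgroup.normal_centralizer
  let act : G →* Equiv.Perm {g : G // IsConj x g} :=
    { toFun := fun g => (MulAut.conj g).toEquiv.subtypeEquiv fun y =>
        ⟨fun h => h.trans (isConj_iff.mpr ⟨g, rfl⟩), fun h => h.trans (isConj_iff.mpr ⟨g, rfl⟩).symm⟩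
      map_one' := Equiv.ext fun y => Subtype.ext (by simp)
      map_mul' := fun g g' => Equiv.ext fun y => Subtype.ext (by simp [mul_assoc]) }
  have hker : act.ker ≤ C := by
    intro g hg
    refine Subgroup.mem_centralizer_iff.mpr fun y hy => ?_
    suffices hy' : g ∈ Subgroup.centralizer ({y} : Set G) from
      (Subgroup.mem_centralizer_singleton_iff.mp hy').symm
    have hle : L ≤ Subgroup.centralizer ({g} : Set G) := by
      rw [hL, Subgroup.normalClosure, Subgroup.closure_le]
      intro z hz
      obtain ⟨x', hx', hconj⟩ := Group.mem_conjugatesOfSet_iff.mp hz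
      rw [Set.mem_singleton_iff] at hx'
      subst hx'
      have h1 := congrArg Subtype.val (Equiv.ext_iff.mp (MonoidHom.mem_ker.mp hg) ⟨z, hconj⟩)
      simp only [act, MonoidHom.coe_mk, OneHom.coe_mk, Equiv.subtypeEquiv_apply,
        MulEquiv.toEquiv_eq_coe, MulEquiv.coe_toEquiv, MulAut.conj_apply, Equiv.Perm.coe_one,
        id_eq, mul_inv_eq_iff_eq_mul] at h1
      exact Subgroup.mem_centralizer_singleton_iff.mpr h1.symm
    exact Subgroup.mem_centralizer_singleton_iff.mpr
      (Subgroup.mem_centralizer_singleton_iff.mp (hle hy)).symm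
  have hCidx : C.index ≤ Nat.factorial (2 * c ^ 2) := by
    refine (Nat.le_of_dvd (Nat.pos_of_ne_zero Subgroup.index_ne_zero_of_finite)
      (Subgroup.index_dvd_of_le hker)).trans ?_
    rw [Subgroup.index_ker]
    refine (Subgroup.card_le_card_group _).trans ?_
    rw [Nat.card_eq_fintype_card (α := Equiv.Perm _), Fintype.card_perm, ← Nat.card_eq_fintype_card]
    exact Nat.factorial_le hx
  -- the odd core of G ⧸ L
  set K := pPrimeCore 2 (G ⧸ L)
  haveI : K.Normal := Basics.pPrimeCore_normal 2
  set R := K.comap (QuotientGroup.mk' L)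
  have hLR : L ≤ R := fun y hy => by
    rw [Subgroup.mem_comap, QuotientGroup.mk'_apply, (QuotientGroup.eq_one_iff y).mpr hy]
    exact K.one_mem
  set A := L ⊓ C
  have hAcomm : ∀ y ∈ A, ∀ z ∈ A, y * z = z * y := fun y hy z hz =>
    Subgroup.mem_centralizer_iff.mp hz.2 y hy.1
  set S := R ⊓ C
  haveI : S.Normal := Subgroup.normal_inf_normal R C
  haveI : A.Normal := Subgroup.normal_inf_normal L C
  have hA2 : IsPGroup 2 A := by
    let O : Subgroup G :=
      { carrier := {y | y ∈ A ∧ Odd (orderOf y)}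
        one_mem' := ⟨A.one_mem, by rw [orderOf_one]; exact odd_one⟩
        mul_mem' := fun {y z} hy hz => ⟨A.mul_mem hy.1 hz.1, (Odd.of_dvd_nat (hy.2.mul hz.2)
          ((Commute.orderOf_mul_dvd_lcm (hAcomm y hy.1 z hz.1)).trans (Nat.lcm_dvd_mul _ _)))⟩
        inv_mem' := fun {y} hy => ⟨A.inv_mem hy.1, by rw [orderOf_inv]; exact hy.2⟩ }
    haveI : O.Normal := ⟨fun y hy g => ⟨‹A.Normal›.conj_mem y hy.1 g, by
      rw [Invol.orderOf_conj]; exact hy.2⟩⟩
    have hOodd : Odd (Nat.card O) := by
      by_contra he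
      haveI : Fact (Nat.Prime 2) := ⟨Nat.prime_two⟩
      obtain ⟨y, hy⟩ := exists_prime_orderOf_dvd_card' 2
        (even_iff_two_dvd.mp (Nat.not_odd_iff_even.mp he))
      have h2 := y.2.2
      rw [Subgroup.orderOf_coe, hy] at h2
      exact absurd h2 (by decide)
    have hbot := odd_normal_trivial hO O hOodd
    intro y
    obtain ⟨k, m, hm, hkm⟩ := Nat.exists_eq_pow_mul_and_not_dvd (orderOf_pos y).ne' 2 (by norm_num)
    refine ⟨k, ?_⟩
    have hmem : ((y ^ 2 ^ k : A) : G) ∈ O := by
      refine ⟨(y ^ 2 ^ k).2, ?_⟩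
      rw [Subgroup.orderOf_coe, orderOf_pow, hkm, Nat.gcd_mul_right_left,
        Nat.mul_div_cancel_left _ (Nat.two_pow_pos k), Nat.odd_iff]
      omega
    rw [hbot, Subgroup.mem_bot] at hmem
    exact Subtype.ext hmem
  have hSL : ∀ y ∈ S, ∀ z ∈ A, y * z = z * y := fun y hy z hz =>
    (Subgroup.mem_centralizer_iff.mp hy.2 z hz.1).symm
  have hSA : S = A := by
    have hAS : A ≤ S := inf_le_inf_right C hLR
    have hidx : Odd ((A.subgroupOf S).index) := by
      have h1 : (A.subgroupOf S).index ∣ Nat.card K := by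
        have hsub : A.subgroupOf S = ((QuotientGroup.mk' L).comp S.subtype).ker := by
          ext y
          simp only [Subgroup.mem_subgroupOf, MonoidHom.mem_ker, MonoidHom.coe_comp,
            Function.comp_apply, Subgroup.coe_subtype, QuotientGroup.mk'_apply,
            QuotientGroup.eq_one_iff]
          exact ⟨fun h => h.1, fun h => ⟨h, y.2.2⟩⟩
        rw [hsub, Subgroup.index_ker]
        refine Subgroup.card_dvd_of_le ?_
        rintro _ ⟨y, rfl⟩
        exact y.2.1
      exact Odd.of_dvd_nat (Nat.coprime_two_right.mp (Basics.pPrimeCore_coprime 2)) h1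
    obtain ⟨kA, hkA⟩ := (IsPGroup.iff_card.mp hA2)
    have hcardA : Nat.card (A.subgroupOf S) = 2 ^ kA :=
      (Nat.card_congr (Subgroup.subgroupOfEquivOfLe hAS).toEquiv).trans hkA
    have hcop : (Nat.card (A.subgroupOf S)).Coprime (A.subgroupOf S).index := by
      rw [hcardA]
      exact (Nat.coprime_two_left.mpr hidx).pow_left _
    obtain ⟨H, hH⟩ := Subgroup.exists_right_complement'_of_coprime hcop
    have hHcard : Nat.card H = (A.subgroupOf S).index := (hH.symm.index_eq_card).symm
    have hHmem : ∀ y : S, Odd (orderOf y) → y ∈ H := by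
      intro y hy
      obtain ⟨⟨⟨z, hz⟩, ⟨h, hh⟩⟩, hyz⟩ := (Subgroup.IsComplement.existsUnique hH y).exists
      simp only at hyz
      have hcomm : Commute z h := Subtype.ext (hSL h h.2 z (Subgroup.mem_subgroupOf.mp hz)).symm
      have hzodd : Odd (orderOf z) := by
        have e : z = y * h⁻¹ := by rw [← hyz]; group
        have hc2 : Commute y h⁻¹ := by
          rw [← hyz]
          exact (hcomm.mul_left (Commute.refl h)).inv_right
        rw [e]
        refine Odd.of_dvd_nat (hy.mul ?_)
          ((hc2.orderOf_mul_dvd_lcm).trans (Nat.lcm_dvd_mul _ _))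
        rw [orderOf_inv]
        refine Odd.of_dvd_nat hidx ?_
        rw [← hHcard]
        exact Subgroup.orderOf_dvd_natCard H hh
      have hz2 : orderOf z ∣ 2 ^ kA := by
        rw [← hcardA]
        exact Subgroup.orderOf_dvd_natCard _ hz
      have : z = 1 := orderOf_eq_one_iff.mp (Nat.eq_one_of_dvd_coprimes
        ((Nat.coprime_two_left.mpr hzodd).pow_left kA) hz2 dvd_rfl)
      rw [← hyz, this, one_mul]
      exact hh
    let H' : Subgroup G := H.map S.subtype
    haveI : H'.Normal := ⟨by
      rintro _ ⟨y, hy, rfl⟩ g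
      refine ⟨⟨g * y * g⁻¹, ‹S.Normal›.conj_mem _ y.2 g⟩, hHmem _ ?_, rfl⟩
      rw [← Subgroup.orderOf_coe, Invol.orderOf_conj, Subgroup.orderOf_coe]
      refine Odd.of_dvd_nat hidx ?_
      rw [← hHcard]
      exact Subgroup.orderOf_dvd_natCard H hy⟩
    have hH' : H' = ⊥ := odd_normal_trivial hO H' (by
      rw [Subgroup.card_map_of_injective S.subtype_injective, hHcard]; exact hidx)
    rw [Subgroup.map_eq_bot_iff_of_injective _ S.subtype_injective] at hH'
    have h1 : (A.subgroupOf S).index = 1 := by rw [← hHcard, hH', Subgroup.card_bot]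
    exact le_antisymm (fun y hy => by
      have := Subgroup.index_eq_one.mp h1 ▸ Subgroup.mem_top (⟨y, hy⟩ : S)
      exact Subgroup.mem_subgroupOf.mp this) hAS
  have hRle : Nat.card R ≤ ℓ := by
    have h1 : Nat.card R = Nat.card S * (C.subgroupOf R).index := by
      rw [show Nat.card S = Nat.card (C.subgroupOf R) from
        (Nat.card_congr (Subgroup.subgroupOfEquivOfLe inf_le_left).toEquiv).symm.trans
          (by rw [Subgroup.inf_subgroupOf_left]), Subgroup.card_mul_index]
    have h2 : Nat.card S ≤ 2 ^ (a + 1) := by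
      rw [hSA]
      obtain ⟨k, hk⟩ := IsPGroup.iff_card.mp hA2
      rw [hk]
      refine Nat.pow_le_pow_right (by norm_num) ((le_trans ?_ ha))
      exact (Nat.prime_two.pow_dvd_iff_le_factorization Nat.card_pos.ne').mp
        (hk ▸ Subgroup.card_subgroup_dvd_card A)
    have h3 : (C.subgroupOf R).index ≤ C.index :=
      Nat.le_of_dvd (Nat.pos_of_ne_zero Subgroup.index_ne_zero_of_finite)
        (Subgroup.relIndex_dvd_index_of_normal C R)
    rw [h1, mul_comm]
    exact Nat.mul_le_mul (h3.trans hCidx) h2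
  by_cases htR : t ∈ R
  · have h1 : Nat.card {g : G // IsConj t g} ≤ Nat.card R := by
      refine Nat.card_le_card_of_injective (fun g => ⟨g.1, ?_⟩) fun y z h =>
        Subtype.ext (congrArg (fun r : R => (r : G)) h)
      obtain ⟨d, hd⟩ := isConj_iff.mp g.2
      exact hd ▸ (inferInstance : R.Normal).conj_mem t htR d
    rw [← CT.card_conj_class_mul_centralizer t]
    calc _ ≤ ℓ * c := Nat.mul_le_mul (h1.trans hRle) hct
      _ ≤ _ := by rw [mul_comm ℓ c]; omega
  have hL2 : 2 ∣ Nat.card L := by
    by_contra h2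
    have := odd_normal_trivial hO L (Nat.odd_iff.mpr (by omega))
    rw [this, Subgroup.mem_bot] at hxL
    exact hx1 hxL
  have hR2 : 2 ∣ Nat.card R := hL2.trans (Subgroup.card_dvd_of_le hLR)
  have ha' : (Nat.card (G ⧸ R)).factorization 2 ≤ a := by
    have h := congrArg (fun n => n.factorization 2) (Subgroup.index_mul_card R)
    simp only [Nat.factorization_mul Subgroup.index_ne_zero_of_finite Nat.card_pos.ne',
      Finsupp.coe_add, Pi.add_apply] at h
    have := Nat.prime_two.factorization_pos_of_dvd Nat.card_pos.ne' hR2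
    rw [Subgroup.index_eq_card] at h
    omega
  have hO' : pPrimeCore 2 (G ⧸ R) = ⊥ := by
    set K' := pPrimeCore 2 (G ⧸ R)
    haveI : K'.Normal := Basics.pPrimeCore_normal 2
    set R' := K'.comap (QuotientGroup.mk' R)
    have hRR' : R ≤ R' := fun y hy => by
      rw [Subgroup.mem_comap, QuotientGroup.mk'_apply, (QuotientGroup.eq_one_iff y).mpr hy]
      exact K'.one_mem
    have h1 := Basics.card_comap_mk' (N := R) K'
    have h2 := Basics.card_comap_mk' (N := L) K
    have hmap : R'.map (QuotientGroup.mk' L) ≤ K := by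
      haveI : (R'.map (QuotientGroup.mk' L)).Normal :=
        (inferInstance : R'.Normal).map _ (QuotientGroup.mk'_surjective L)
      refine Basics.le_pPrimeCore ?_
      have h3 := Basics.card_comap_mk' (N := L) (R'.map (QuotientGroup.mk' L))
      rw [Subgroup.comap_map_eq, QuotientGroup.ker_mk', sup_eq_left.mpr (hLR.trans hRR'), h1, h2,
        mul_assoc] at h3
      rw [← Nat.eq_of_mul_eq_mul_left Nat.card_pos h3]
      exact (Basics.pPrimeCore_coprime 2).mul_left (Basics.pPrimeCore_coprime 2)
    have hle : R' ≤ R := fun y hy => hmap (Subgroup.mem_map_of_mem _ hy)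
    rw [Subgroup.eq_bot_iff_forall]
    intro y hy
    obtain ⟨g, rfl⟩ := QuotientGroup.mk_surjective y
    exact (QuotientGroup.eq_one_iff g).mpr (hle hy)
  have ht' : orderOf (t : G ⧸ R) = 2 :=
    Invol.orderOf_two_of_mul_self (by rw [← QuotientGroup.mk_mul,
      Invol.mul_self_of_orderOf_two ht, QuotientGroup.mk_one])
      fun h => htR ((QuotientGroup.eq_one_iff t).mp h)
  have hct' : Nat.card (Subgroup.centralizer ({(t : G ⧸ R)} : Set (G ⧸ R))) ≤ ℓ * c :=
    (card_centralizer_mk_le R t).trans (Nat.mul_le_mul hRle hct)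
  rw [Subgroup.card_eq_card_quotient_mul_card_subgroup R]
  calc Nat.card (G ⧸ R) * Nat.card R ≤ N₁ * ℓ :=
        Nat.mul_le_mul (hN₁ (G ⧸ R) ha' hO' _ ht' hct') hRle
    _ ≤ _ := by rw [mul_comm N₁ ℓ]; omega

/-- A four-group with bounded centralizers bounds the group. -/
theorem exists_bound (a c : ℕ) : ∃ N : ℕ, ∀ (G : Type u) [Group G] [Finite G],
    (Nat.card G).factorization 2 ≤ a → ∀ x y : G, orderOf x = 2 → orderOf y = 2 → x * y = y * x →
      x ≠ y → Nat.card (Subgroup.centralizer ({x} : Set G)) ≤ c →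
      Nat.card (Subgroup.centralizer ({y} : Set G)) ≤ c →
      Nat.card (Subgroup.centralizer ({x * y} : Set G)) ≤ c → Nat.card G ≤ N := by
  set ℓ := (c ^ 3) ^ (c + 1)
  obtain ⟨N₁, hN₁⟩ := exists_bound_of_core_trivial.{u} a (ℓ * c)
  refine ⟨N₁ * ℓ, fun G _ _ ha x y hx hy hxy hne hcx hcy hcxy => ?_⟩
  have hOle := card_pPrimeCore_le hx hy hxy hne c hcx hcy hcxy
  set O := pPrimeCore 2 G
  haveI : O.Normal := Basics.pPrimeCore_normal 2
  have hxO : x ∉ O := fun h => by
    have h1 := Subgroup.orderOf_dvd_natCard O h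
    rw [hx] at h1
    exact Nat.prime_two.coprime_iff_not_dvd.mp (Basics.pPrimeCore_coprime (G := G) 2).symm h1
  have hx' : orderOf (x : G ⧸ O) = 2 :=
    Invol.orderOf_two_of_mul_self (by rw [← QuotientGroup.mk_mul,
      Invol.mul_self_of_orderOf_two hx, QuotientGroup.mk_one])
      fun h => hxO ((QuotientGroup.eq_one_iff x).mp h)
  have ha' : (Nat.card (G ⧸ O)).factorization 2 ≤ a :=
    le_trans ((Nat.factorization_le_iff_dvd Nat.card_pos.ne' Nat.card_pos.ne').mpr
      (Subgroup.card_quotient_dvd_card O) 2) ha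
  rw [Subgroup.card_eq_card_quotient_mul_card_subgroup O]
  exact Nat.mul_le_mul (hN₁ (G ⧸ O) ha' (Basics.pPrimeCore_quotient_eq_bot 2) _ hx'
    ((card_centralizer_mk_le O x).trans (Nat.mul_le_mul hOle hcx))) hOle

end Cfsg.Agent.BoundedCent
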