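import Cfsg.Agent.Lib.CT.Orthogonality
import Cfsg.Agent.Lib.CT.Integral

/-!
# Generalised orthogonality and the commutator count
-/

namespace Cfsg.Agent.ClassSum

open scoped ComplexConjugate
open Cfsg.Agent

universe u

variable {G : Type u} [Group G] [Fintype G]

/-- Generalised orthogonality relation. -/
theorem sum_conj_mul_shift [DecidableEq (IrrCharacter G)] (χ ψ : IrrCharacter G) (z : G) :
    ∑ g : G, conj ((χ : G → ℂ) g) * (ψ : G → ℂ) (g * z) =
      if χ = ψ then (Nat.card G : ℂ) * (ψ : G → ℂ) z / (ψ : G → ℂ) 1 else 0 := by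
  obtain ⟨m, ρ, hρ, hchar⟩ := ψ.2
  haveI := hρ
  have hf : IsClassFunction G fun g => conj ((χ : G → ℂ) g) := fun g h => by
    show conj _ = conj _
    rw [CT.isClassFunction_of_isIrr χ.2 g h]
  have h := congrArg (fun T => LinearMap.trace ℂ (Fin m → ℂ) (T * ρ z)) (CT.weighted_sum_scalar ρ hf)
  simp only [Finset.sum_mul, smul_mul_assoc, ← map_mul, map_sum, map_smul, smul_eq_mul,
    ← Module.End.one_eq_id, one_mul] at h
  have hm : (Module.finrank ℂ (Fin m → ℂ) : ℂ) = (ψ : G → ℂ) 1 := by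
    rw [← hchar, Representation.char_one]
  have hc : ∀ g, LinearMap.trace ℂ (Fin m → ℂ) (ρ g) = (ψ : G → ℂ) g := fun g => congrFun hchar g
  simp only [hc, hm, hchar] at h
  rw [h]
  have hin := CT.irr_inner_subtype ψ χ
  rw [classInner] at hin
  have hs : ∑ g : G, conj ((χ : G → ℂ) g) * (ψ : G → ℂ) g =
      (Nat.card G : ℂ) * ((Nat.card G : ℂ)⁻¹ * ∑ g : G, (ψ : G → ℂ) g * conj ((χ : G → ℂ) g)) := by
    rw [mul_inv_cancel_left₀ (Nat.cast_ne_zero.mpr Nat.card_pos.ne')]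
    exact Finset.sum_congr rfl fun g _ => mul_comm _ _
  rw [hs, hin]
  by_cases he : χ = ψ
  · rw [if_pos he.symm, if_pos he]; ring
  · rw [if_neg (fun e => he e.symm), if_neg he]; ring

/-- The number of elements conjugating `a` to `b`. -/
theorem card_conjugators (a b : G) :
    (Nat.card {y : G // y * a * y⁻¹ = b} : ℂ) =
      ∑ χ : IrrCharacter G, (χ : G → ℂ) a * conj ((χ : G → ℂ) b) := by
  classical
  rw [CT.column_orthogonality]
  by_cases h : IsConj a b
  · obtain ⟨c, hc⟩ := isConj_iff.mp h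
    rw [if_pos h]
    congr 1
    refine Nat.card_congr ((Equiv.mulLeft c⁻¹).subtypeEquiv fun y => ?_)
    rw [Subgroup.mem_centralizer_singleton_iff]
    simp only [Equiv.coe_mulLeft]
    constructor
    · intro hy
      calc c⁻¹ * y * a = c⁻¹ * (y * a * y⁻¹) * y := by group
        _ = c⁻¹ * (c * a * c⁻¹) * y := by rw [hy, hc]
        _ = a * (c⁻¹ * y) := by group
    · intro hy
      calc y * a * y⁻¹ = c * (c⁻¹ * y * a) * y⁻¹ := by group
        _ = c * (a * (c⁻¹ * y)) * y⁻¹ := by rw [hy]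
        _ = b := by rw [← hc]; group
  · rw [if_neg h, Nat.cast_eq_zero]
    haveI : IsEmpty {y : G // y * a * y⁻¹ = b} := ⟨fun y => h (isConj_iff.mpr ⟨y.1, y.2⟩)⟩
    exact Nat.card_of_isEmpty

theorem card_conjugators' (a b : G) :
    (Nat.card {y : G // y * a * y⁻¹ = b} : ℂ) =
      ∑ χ : IrrCharacter G, conj ((χ : G → ℂ) a) * (χ : G → ℂ) b := by
  rw [← Complex.conj_natCast, card_conjugators a b, map_sum]
  simp

/-- The number of pairs with commutator `z`. -/
theorem card_commutator (z : G) :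
    (Nat.card {xy : G × G // xy.1 * xy.2 * xy.1⁻¹ * xy.2⁻¹ = z} : ℂ) =
      (Nat.card G : ℂ) * ∑ χ : IrrCharacter G, (χ : G → ℂ) z / (χ : G → ℂ) 1 := by
  classical
  have e : {xy : G × G // xy.1 * xy.2 * xy.1⁻¹ * xy.2⁻¹ = z} ≃
      Σ x : G, {y : G // y * x⁻¹ * y⁻¹ = x⁻¹ * z} :=
    { toFun := fun a => ⟨a.1.1, a.1.2, by
        refine eq_inv_mul_of_mul_eq ((?_ : _ = a.1.1 * a.1.2 * a.1.1⁻¹ * a.1.2⁻¹).trans a.2)
        group⟩
      invFun := fun a => ⟨(a.1, a.2.1), by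
        show a.1 * a.2.1 * a.1⁻¹ * a.2.1⁻¹ = z
        calc a.1 * a.2.1 * a.1⁻¹ * a.2.1⁻¹ = a.1 * (a.2.1 * a.1⁻¹ * a.2.1⁻¹) := by group
          _ = z := by rw [a.2.2]; group⟩
      left_inv := fun _ => rfl
      right_inv := fun _ => rfl }
  rw [Nat.card_congr e, Nat.card_sigma, Nat.cast_sum]
  simp only [card_conjugators']
  rw [Finset.sum_comm, Finset.mul_sum]
  refine Finset.sum_congr rfl fun χ _ => ?_
  have h := sum_conj_mul_shift χ χ z
  rw [if_pos rfl] at h
  rw [mul_div_assoc'] 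
  rw [← h]
  exact Fintype.sum_equiv (Equiv.inv G) _ _ fun x => rfl

end Cfsg.Agent.ClassSum
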