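import Cfsg.Agent.Lib.ClassSum.Basic
import Mathlib.GroupTheory.Subgroup.Centralizer
import Mathlib.GroupTheory.FixedPointFree
import Mathlib.GroupTheory.Nilpotent

/-!
# Criteria for the existence of p-defect zero characters
-/

namespace Cfsg.Agent.ClassSum

open scoped ComplexConjugate
open Cfsg.Agent

universe u

variable {G : Type u} [Group G]

/-- `χ` has full p-part in its degree. -/
def IsDefZero (p : ℕ) (χ : IrrCharacter G) : Prop :=
  (charDegree (χ : G → ℂ)).factorization p = (Nat.card G).factorization p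

theorem isDefZero_iff [Finite G] {p : ℕ} (hp : p.Prime) (χ : IrrCharacter G) :
    IsDefZero p χ ↔ p ^ (Nat.card G).factorization p ∣ CT.deg (χ : G → ℂ) := by
  haveI := Fintype.ofFinite G
  have hpos : CT.deg (χ : G → ℂ) ≠ 0 := (CT.deg_pos χ.2).ne'
  have hle : (CT.deg (χ : G → ℂ)).factorization p ≤ (Nat.card G).factorization p :=
    (Nat.factorization_le_iff_dvd hpos Nat.card_pos.ne').mpr (degree_dvd_card χ) p
  rw [hp.pow_dvd_iff_le_factorization hpos]
  show (CT.deg (χ : G → ℂ)).factorization p = _ ↔ _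
  omega

theorem exists_isDefZero_of_not_dvd {p : ℕ} (h : ¬ p ∣ Nat.card G) :
    ∃ χ : IrrCharacter G, IsDefZero p χ := by
  refine ⟨CT.trivIrr G, ?_⟩
  have h1 : charDegree (CT.trivIrr G : G → ℂ) = 1 := by simp [charDegree]
  simp [IsDefZero, h1, Nat.factorization_eq_zero_of_not_dvd h]

/-- Without characters of p-defect zero, `#{w p-element | y w ~ b}` is divisible by `p` as soon as
the centralizer of `b` has order prime to `p`. -/
theorem dvd_count_pElt [Finite G] {p : ℕ} (hp : p.Prime)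
    (h0 : ∀ χ : IrrCharacter G, ¬ IsDefZero p χ) (y b : G)
    (hb : ¬ p ∣ Nat.card (Subgroup.centralizer ({b} : Set G))) :
    p ∣ Nat.card {w : G // (∃ k : ℕ, orderOf w = p ^ k) ∧ IsConj b (y * w)} := by
  classical
  haveI := Fintype.ofFinite G
  obtain ⟨M, hM⟩ := exists_modular p hp
  have hsum := sum_char_omega_conj (pElt_isClassWeight (G := G) p) y b
  have hin : InM M (∑ χ : IrrCharacter G,
      (χ : G → ℂ) y * omega (χ : G → ℂ) (pElt p G) * conj ((χ : G → ℂ) b)) := by
    refine InM.sum _ fun χ _ => ?_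
    refine ((omega_pElt_inM hM χ ?_).mul_left
      (CT.isIntegral_isCharacter (CT.isCharacter_of_isIrr χ.2) y)).mul_right ?_
    · exact fun h => h0 χ ((isDefZero_iff hp χ).mpr h)
    · rw [← CT.char_inv_eq_conj (CT.isCharacter_of_isIrr χ.2)]
      exact CT.isIntegral_isCharacter (CT.isCharacter_of_isIrr χ.2) _
  have hcount : ∑ g, (pElt p G g : ℂ) * (classInd b (y * g) : ℂ) =
      (Nat.card {w : G // (∃ k : ℕ, orderOf w = p ^ k) ∧ IsConj b (y * w)} : ℂ) := by
    rw [Nat.card_eq_fintype_card, Fintype.card_subtype, Finset.card_filter, Nat.cast_sum]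
    refine Finset.sum_congr rfl fun g _ => ?_
    unfold pElt classInd
    by_cases h1 : ∃ k : ℕ, orderOf g = p ^ k <;> by_cases h2 : IsConj b (y * g)
    · rw [if_pos h1, if_pos h2, if_pos ⟨h1, h2⟩]; simp
    · rw [if_pos h1, if_neg h2, if_neg fun h => h2 h.2]; simp
    · rw [if_neg h1, if_pos h2, if_neg fun h => h1 h.1]; simp
    · rw [if_neg h1, if_neg h2, if_neg fun h => h1 h.1]; simp
  rw [hsum, hcount, ← Nat.cast_mul, inM_natCast_iff hM, hp.dvd_mul] at hin
  exact hin.resolve_left hb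

/-- An involution with centralizer of order prime to `p` inverts a nontrivial p-element, unless
there is a character of p-defect zero. -/
theorem exists_inverted [Finite G] {p : ℕ} (hp : p.Prime)
    (h0 : ∀ χ : IrrCharacter G, ¬ IsDefZero p χ) {a : G} (ha : a * a = 1)
    (hC : ¬ p ∣ Nat.card (Subgroup.centralizer ({a} : Set G))) :
    ∃ z : G, z ≠ 1 ∧ (∃ k : ℕ, orderOf z = p ^ k) ∧ a * z * a = z⁻¹ := by
  have h := dvd_count_pElt hp h0 a a hC
  let T := {w : G // (∃ k : ℕ, orderOf w = p ^ k) ∧ IsConj a (a * w)}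
  let one : T := ⟨1, ⟨0, by simp⟩, by rw [mul_one]⟩
  have hlt : 1 < Nat.card T := lt_of_lt_of_le hp.one_lt (Nat.le_of_dvd
    (Nat.card_pos_iff.mpr ⟨⟨one⟩, inferInstance⟩) h)
  haveI : Nontrivial T := Finite.one_lt_card_iff_nontrivial.mp hlt
  obtain ⟨w, hw⟩ := exists_ne one
  refine ⟨w.1, fun e => hw (Subtype.ext e), w.2.1, ?_⟩
  obtain ⟨c, hc⟩ := isConj_iff.mp w.2.2
  have h2 : (a * w.1) * (a * w.1) = 1 := by
    rw [← hc, show c * a * c⁻¹ * (c * a * c⁻¹) = c * (a * a) * c⁻¹ by group, ha]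
    simp
  exact eq_inv_of_mul_eq_one_left (by simpa [mul_assoc] using h2)

theorem not_dvd_centralizer_of_no_two_p [Finite G] {p : ℕ} [Fact p.Prime] (hp2 : p ≠ 2)
    (h2p : ∀ g : G, orderOf g ≠ 2 * p) {a : G} (ha : orderOf a = 2) :
    ¬ p ∣ Nat.card (Subgroup.centralizer ({a} : Set G)) := by
  intro h
  obtain ⟨x, hx⟩ := exists_prime_orderOf_dvd_card' p h
  have hc : Commute a (x : G) := (Subgroup.mem_centralizer_singleton_iff.mp x.2).symm
  refine h2p (a * x) ?_
  rw [hc.orderOf_mul_eq_mul_orderOf_of_coprime] <;> rw [ha, Subgroup.orderOf_coe, hx]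
  exact (Nat.coprime_primes Nat.prime_two Fact.out).mpr (Ne.symm hp2)

/-- If `d` has odd order and is inverted by the involution `a`, then `a * d` is conjugate to `a`
by a power of `d`. -/
theorem conj_of_inverted [Finite G] {a d : G} (ha : a * a = 1) (hd : Odd (orderOf d))
    (hinv : a * d * a = d⁻¹) : ∃ k : ℕ, (d ^ k)⁻¹ * a * (d ^ k) = a * d := by
  obtain ⟨m, hm⟩ := hd
  refine ⟨m + 1, ?_⟩
  have hai : a⁻¹ = a := inv_eq_of_mul_eq_one_left ha
  have hw : a * d ^ (m + 1) * a⁻¹ = (d ^ (m + 1))⁻¹ := by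
    rw [← conj_pow, hai, hinv, inv_pow]
  have hw2 : (d ^ (m + 1))⁻¹ * a = a * d ^ (m + 1) := by
    rw [← hw, mul_assoc, inv_mul_cancel, mul_one]
  rw [hw2, mul_assoc, ← pow_add, show (m + 1) + (m + 1) = orderOf d + 1 by omega, pow_add,
    pow_orderOf_eq_one, pow_one, one_mul]

theorem odd_centralizer_of_no_two_p [Finite G] {p : ℕ} [Fact p.Prime] (hp2 : p ≠ 2)
    (h2p : ∀ g : G, orderOf g ≠ 2 * p) {Q : Subgroup G} (hQ : IsPGroup p Q) (hQ1 : Q ≠ ⊥) :
    Odd (Nat.card (Subgroup.centralizer (Q : Set G))) := by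
  rw [← Nat.not_even_iff_odd, even_iff_two_dvd]
  intro h
  obtain ⟨t, ht⟩ := exists_prime_orderOf_dvd_card' 2 h
  obtain ⟨x, hxQ, hx⟩ := (Subgroup.ne_bot_iff_exists_ne_one.mp hQ1 |>.elim
    fun x hx => (⟨(x : G), x.2, fun e => hx (Subtype.ext e)⟩ : ∃ y : G, y ∈ Q ∧ y ≠ 1))
  obtain ⟨k, hk⟩ := (IsPGroup.iff_orderOf.mp hQ) ⟨x, hxQ⟩
  rw [Subgroup.orderOf_mk] at hk
  have hk0 : k ≠ 0 := fun e => hx (orderOf_eq_one_iff.mp (by rw [hk, e, pow_zero]))
  obtain ⟨k, rfl⟩ := Nat.exists_eq_succ_of_ne_zero hk0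
  have hy : orderOf (x ^ p ^ k) = p := by
    rw [orderOf_pow' _ (pow_ne_zero _ (Nat.Prime.ne_zero Fact.out)), hk,
      Nat.gcd_eq_right (pow_dvd_pow p (Nat.le_succ k)), pow_succ,
      Nat.mul_div_cancel_left _ (pow_pos (Nat.Prime.pos Fact.out) k)]
  refine not_dvd_centralizer_of_no_two_p hp2 h2p ((Subgroup.orderOf_coe t).trans ht) ?_
  rw [← hy]
  exact Subgroup.orderOf_dvd_natCard _ (Subgroup.mem_centralizer_singleton_iff.mpr
    ((Subgroup.mem_centralizer_iff.mp t.2) _ (Q.pow_mem hxQ _)))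

/-- Main lemma: if no element has order `2p` and there is no character of p-defect zero, every
involution inverts a nontrivial Sylow p-subgroup. -/
theorem exists_inverted_sylow [Finite G] {p : ℕ} [Fact p.Prime] (hp2 : p ≠ 2)
    (h2p : ∀ g : G, orderOf g ≠ 2 * p) (h0 : ∀ χ : IrrCharacter G, ¬ IsDefZero p χ)
    {a : G} (ha : orderOf a = 2) :
    ∃ P : Sylow p G, (P : Subgroup G) ≠ ⊥ ∧ ∀ x ∈ (P : Subgroup G), a * x * a = x⁻¹ := by
  have hp : p.Prime := Fact.out
  have ha2 : a * a = 1 := by rw [← pow_two, ← ha]; exact pow_orderOf_eq_one a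
  have hai : a⁻¹ = a := inv_eq_of_mul_eq_one_left ha2
  have haC := not_dvd_centralizer_of_no_two_p hp2 h2p ha
  obtain ⟨z, hz1, hzp, hz⟩ := exists_inverted hp h0 ha2 haC
  obtain ⟨Q, hQ⟩ := Set.Finite.exists_maximal (s := {Q : Subgroup G |
      IsPGroup p Q ∧ Q ≠ ⊥ ∧ ∀ x ∈ Q, a * x * a = x⁻¹}) (Set.toFinite _)
    ⟨Subgroup.zpowers z, (by rw [IsPGroup.iff_card, Nat.card_zpowers]; exact hzp),
      by simpa [Subgroup.zpowers_eq_bot] using hz1, fun x hx => by
        obtain ⟨i, rfl⟩ := hx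
        have h1 : a * z * a⁻¹ = z⁻¹ := by rw [hai]; exact hz
        calc a * z ^ i * a = a * z ^ i * a⁻¹ := by rw [hai]
          _ = (z ^ i)⁻¹ := by rw [← conj_zpow, h1, inv_zpow]⟩
  obtain ⟨hQp, hQ1, hQinv⟩ := hQ.prop
  have hQcomm : ∀ x ∈ Q, ∀ y ∈ Q, x * y = y * x := by
    intro x hx y hy
    have h1 : (x * y)⁻¹ = x⁻¹ * y⁻¹ := by
      rw [← hQinv x hx, ← hQinv y hy, ← hQinv _ (Q.mul_mem hx hy)]
      calc a * (x * y) * a = a * x * (a * a) * y * a := by rw [ha2]; group
        _ = _ := by group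
    rwa [← mul_inv_rev, inv_inj] at h1
  set C := Subgroup.centralizer (Q : Set G) with hC
  have hQC : Q ≤ C := fun x hx => Subgroup.mem_centralizer_iff.mpr fun y hy => hQcomm y hy x hx
  have hCodd : Odd (Nat.card C) := odd_centralizer_of_no_two_p hp2 h2p hQp hQ1
  -- a normalizes C
  have haCC : ∀ c ∈ C, a * c * a ∈ C := by
    intro c hc
    refine Subgroup.mem_centralizer_iff.mpr fun x hx => ?_
    have h1 := Subgroup.mem_centralizer_iff.mp hc _ (Q.inv_mem hx)
    have h2 : x = a * x⁻¹ * a := by rw [hQinv _ (Q.inv_mem hx), inv_inv]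
    calc x * (a * c * a) = a * x⁻¹ * (a * a) * c * a := by
          conv_lhs => rw [h2]
          group
      _ = a * (x⁻¹ * c) * a := by rw [ha2]; group
      _ = a * (c * x⁻¹) * a := by rw [h1]
      _ = a * c * (a * a) * x⁻¹ * a := by rw [ha2]; group
      _ = a * c * a * x := by
          conv_rhs => rw [h2]
          group
  let φ : C ≃* C :=
    { toFun := fun c => ⟨a * c * a, haCC c c.2⟩
      invFun := fun c => ⟨a * c * a, haCC c c.2⟩
      left_inv := fun c => Subtype.ext (by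
        show a * (a * c * a) * a = c
        rw [← mul_assoc, ← mul_assoc, ha2, one_mul, mul_assoc, ha2, mul_one])
      right_inv := fun c => Subtype.ext (by
        show a * (a * c * a) * a = c
        rw [← mul_assoc, ← mul_assoc, ha2, one_mul, mul_assoc, ha2, mul_one])
      map_mul' := fun c d => Subtype.ext (by
        show a * (c * d : G) * a = a * c * a * (a * d * a)
        calc a * (c * d : G) * a = a * c * (a * a) * d * a := by rw [ha2]; group
          _ = _ := by group) }
  have hφval : ∀ c : C, (φ c : G) = a * c * a := fun c => rfl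
  -- some Sylow subgroup of C is normalized by a
  haveI := Fintype.ofFinite (Sylow p C)
  have hsyl : Odd (Nat.card (Sylow p C)) :=
    hCodd.of_dvd_nat (((default : Sylow p C).card_dvd_index).trans (Subgroup.index_dvd_card _))
  obtain ⟨R, hR⟩ : ∃ R : Sylow p C, ∀ x, x ∈ (R : Subgroup C) → φ x ∈ (R : Subgroup C) := by
    let f : Sylow p C → Sylow p C := fun R =>
      R.comapOfInjective φ.toMonoidHom φ.injective (le_top.trans (MonoidHom.range_eq_top.mpr φ.surjective).ge)
    have hf : Function.Involutive f := fun R => Sylow.ext (by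
      ext x
      show φ (φ x) ∈ (R : Subgroup C) ↔ x ∈ (R : Subgroup C)
      rw [show φ (φ x) = x from φ.left_inv x])
    obtain ⟨R, hR⟩ : ∃ R, f R = R := by
      by_contra hne
      push Not at hne
      have : (Finset.univ : Finset (Sylow p C)).card % 2 = 0 := by
        rw [← Nat.dvd_iff_mod_eq_zero, ← ZMod.natCast_eq_zero_iff, Finset.card_eq_sum_ones,
          Nat.cast_sum]
        exact Finset.sum_involution (fun R _ => f R) (fun _ _ => by decide)
          (fun R _ _ => hne R) (fun _ _ => Finset.mem_univ _) (fun R _ => hf R)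
      rw [Finset.card_univ, ← Nat.card_eq_fintype_card] at this
      have := Nat.odd_iff.mp hsyl
      omega
    refine ⟨R, fun x hx => ?_⟩
    have h3 : x ∈ (f R : Subgroup C) := by rw [hR]; exact hx
    exact h3
  have hQR : Q.subgroupOf C ≤ (R : Subgroup C) := by
    haveI : (Q.subgroupOf C).Normal := ⟨fun q hq c => by
      have h1 : (c : G) * q * (c : G)⁻¹ = q := by
        rw [← Subgroup.mem_centralizer_iff.mp c.2 _ (Subgroup.mem_subgroupOf.mp hq), mul_inv_cancel_right]
      exact Subgroup.mem_subgroupOf.mpr (by push_cast; rw [h1]; exact Subgroup.mem_subgroupOf.mp hq)⟩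
    have hQ' : IsPGroup p (Q.subgroupOf C) :=
      hQp.of_equiv (Subgroup.subgroupOfEquivOfLe hQC).symm
    exact hQ'.le_sylow_of_normal R
  -- R is inverted by a
  have hRinv : ∀ x ∈ (R : Subgroup C), a * (x : G) * a = (x : G)⁻¹ := by
    let ψ : (R : Subgroup C) →* (R : Subgroup C) :=
      (φ.toMonoidHom.comp (R : Subgroup C).subtype).codRestrict _ fun x => hR x x.2
    have hfp : MonoidHom.FixedPointFree ψ := by
      intro x hx
      have h1 : a * ((x : C) : G) * a = ((x : C) : G) :=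
        congrArg (fun y : (R : Subgroup C) => ((y : C) : G)) hx
      have h2 : ((x : C) : G) ∈ Subgroup.centralizer ({a} : Set G) := by
        rw [Subgroup.mem_centralizer_singleton_iff]
        calc ((x : C) : G) * a = a * ((x : C) : G) * a * a := by rw [h1]
          _ = a * ((x : C) : G) := by rw [mul_assoc (a * _), ha2, mul_one]
      obtain ⟨k, hk⟩ := (IsPGroup.iff_orderOf.mp R.2) x
      have hd : orderOf ((x : C) : G) ∣ Nat.card (Subgroup.centralizer ({a} : Set G)) :=
        Subgroup.orderOf_dvd_natCard _ h2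
      rw [Subgroup.orderOf_coe, Subgroup.orderOf_coe, hk] at hd
      rcases Nat.eq_zero_or_pos k with rfl | hk0
      · simpa using hk
      · exact absurd ((dvd_pow_self p hk0.ne').trans hd) haC
    have hinvol : Function.Involutive ψ := fun x => Subtype.ext (φ.left_inv (x : C))
    intro x hx
    have h := congrFun (hfp.coe_eq_inv_of_involutive hinvol) ⟨x, hx⟩
    exact congrArg (fun y : (R : Subgroup C) => ((y : C) : G)) h
  have hRQ : (R : Subgroup C).map C.subtype = Q := by
    have hle : Q ≤ (R : Subgroup C).map C.subtype := fun x hx =>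
      ⟨⟨x, hQC hx⟩, hQR hx, rfl⟩
    refine le_antisymm (hQ.le_of_ge ⟨R.2.map _, fun e => hQ1 (le_bot_iff.mp (e ▸ hle)), ?_⟩ hle) hle
    rintro x ⟨y, hy, rfl⟩
    exact hRinv y hy
  -- a p-subgroup normalizing Q lies in C
  have hNC : ∀ n ∈ Subgroup.normalizer (Q : Set G), (∃ k : ℕ, orderOf n = p ^ k) → n ∈ C := by
    intro n hn hnp
    -- some element of C times n centralizes a
    have hcent : ∀ m ∈ Subgroup.normalizer (Q : Set G), ∃ c ∈ C,
        c * m ∈ Subgroup.centralizer ({a} : Set G) := by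
      intro m hm
      have hd : a * (m * a * m⁻¹) ∈ C := by
        refine Subgroup.mem_centralizer_iff.mpr fun x hx => ?_
        have hx' : m⁻¹ * x * m ∈ Q := (Subgroup.mem_normalizer_iff''.mp hm x).mp hx
        have h1 : (m * a * m⁻¹) * x * (m * a * m⁻¹) = x⁻¹ := by
          calc (m * a * m⁻¹) * x * (m * a * m⁻¹) = m * (a * (m⁻¹ * x * m) * a) * m⁻¹ := by group
            _ = x⁻¹ := by rw [hQinv _ hx']; group
        set b := m * a * m⁻¹
        have hb2 : b * b = 1 := by
          rw [show b * b = m * (a * a) * m⁻¹ by simp only [b]; group, ha2]; simp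
        have h3 : a * x⁻¹ * a = x := by rw [hQinv _ (Q.inv_mem hx), inv_inv]
        calc x * (a * b) = (a * x⁻¹ * a) * a * b := by rw [h3]; group
          _ = a * x⁻¹ * (a * a) * b := by group
          _ = a * (b * x * b) * b := by rw [ha2, h1, mul_one]
          _ = a * b * x * (b * b) := by group
          _ = a * b * x := by rw [hb2, mul_one]
      set d := a * (m * a * m⁻¹) with hd'
      have hinv : a * d * a = d⁻¹ := by
        rw [hd', ← mul_assoc a a, ha2, one_mul, mul_inv_rev, hai]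
        group
        rw [show a ^ (-1 : ℤ) = a by simpa using hai]
      have hdodd : Odd (orderOf d) := hCodd.of_dvd_nat (Subgroup.orderOf_dvd_natCard C hd)
      obtain ⟨k, hk⟩ := conj_of_inverted ha2 hdodd hinv
      refine ⟨d ^ k, C.pow_mem hd k, Subgroup.mem_centralizer_singleton_iff.mpr ?_⟩
      have h4 : a * d = m * a * m⁻¹ := by rw [hd', ← mul_assoc, ha2, one_mul]
      calc d ^ k * m * a = d ^ k * (m * a * m⁻¹) * m := by group
        _ = d ^ k * ((d ^ k)⁻¹ * a * d ^ k) * m := by rw [hk, h4]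
        _ = a * (d ^ k * m) := by group
    set N := Subgroup.normalizer (Q : Set G)
    haveI : (C.subgroupOf N).Normal := ⟨fun c hc g => by
      refine Subgroup.mem_subgroupOf.mpr (Subgroup.mem_centralizer_iff.mpr fun x hx => ?_)
      have hx' : (g : G)⁻¹ * x * g ∈ Q := (Subgroup.mem_normalizer_iff''.mp g.2 x).mp hx
      have := Subgroup.mem_centralizer_iff.mp (Subgroup.mem_subgroupOf.mp hc) _ hx'
      push_cast
      calc x * ((g : G) * c * (g : G)⁻¹) = g * (((g : G)⁻¹ * x * g) * c) * (g : G)⁻¹ := by group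
        _ = g * (c * ((g : G)⁻¹ * x * g)) * (g : G)⁻¹ := by rw [this]
        _ = (g : G) * c * (g : G)⁻¹ * x := by group⟩
    -- surjection from the centralizer of a in N
    let A := (Subgroup.centralizer ({a} : Set G)).subgroupOf N
    let π : A →* N ⧸ C.subgroupOf N := (QuotientGroup.mk' _).comp A.subtype
    have hsurj : Function.Surjective π := by
      intro q
      obtain ⟨m, rfl⟩ := QuotientGroup.mk'_surjective _ q
      obtain ⟨c, hc, hcm⟩ := hcent m m.2
      have hcN : c * (m : G) ∈ N := N.mul_mem (Subgroup.centralizer_le_normalizer _ hc) m.2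
      refine ⟨⟨⟨c * m, hcN⟩, hcm⟩, ?_⟩
      show QuotientGroup.mk' _ _ = QuotientGroup.mk' _ _
      rw [QuotientGroup.mk'_eq_mk']
      refine ⟨⟨(m : G)⁻¹ * c⁻¹ * m, ?_⟩, ?_, ?_⟩
      · exact N.mul_mem (N.mul_mem (N.inv_mem m.2)
          (N.inv_mem (Subgroup.centralizer_le_normalizer _ hc))) m.2
      · have hmem := ‹(C.subgroupOf N).Normal›.conj_mem
          ⟨c⁻¹, N.inv_mem (Subgroup.centralizer_le_normalizer _ hc)⟩
          (Subgroup.mem_subgroupOf.mpr (C.inv_mem hc)) m⁻¹
        rw [inv_inv] at hmem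
        exact Subgroup.mem_subgroupOf.mp hmem
      · exact Subtype.ext (by show c * (m : G) * ((m : G)⁻¹ * c⁻¹ * m) = m; group)
    have hdvd : Nat.card (N ⧸ C.subgroupOf N) ∣ Nat.card (Subgroup.centralizer ({a} : Set G)) :=
      (Subgroup.card_dvd_of_surjective π hsurj).trans
        ((Subgroup.card_comap_dvd_of_injective _ N.subtype N.subtype_injective))
    obtain ⟨k, hk⟩ := hnp
    have ho : orderOf (QuotientGroup.mk' (C.subgroupOf N) ⟨n, hn⟩) ∣ p ^ k := by
      have := orderOf_map_dvd (QuotientGroup.mk' (C.subgroupOf N)) (⟨n, hn⟩ : N)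
      rwa [Subgroup.orderOf_mk, hk] at this
    obtain ⟨j, _, hj⟩ := (Nat.dvd_prime_pow hp).mp ho
    rcases Nat.eq_zero_or_pos j with rfl | hj0
    · rw [pow_zero, orderOf_eq_one_iff, QuotientGroup.mk'_apply, QuotientGroup.eq_one_iff] at hj
      exact hj
    · have : p ∣ Nat.card (N ⧸ C.subgroupOf N) :=
        (dvd_pow_self p hj0.ne').trans (hj ▸ orderOf_dvd_natCard _)
      exact absurd (this.trans hdvd) haC
  obtain ⟨P, hQP⟩ := hQp.exists_le_sylow
  have hPQ : (P : Subgroup G) = Q := by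
    by_contra hne
    have hlt : Q.subgroupOf (P : Subgroup G) < ⊤ := lt_top_iff_ne_top.mpr fun e =>
      hne (le_antisymm (Subgroup.subgroupOf_eq_top.mp e) hQP)
    haveI : Group.IsNilpotent (P : Subgroup G) := IsPGroup.isNilpotent P.2
    obtain ⟨n, hn, hnQ⟩ := SetLike.exists_of_lt
      (Group.normalizerCondition_of_isNilpotent (Q.subgroupOf (P : Subgroup G)) hlt)
    have hnN : (n : G) ∈ Subgroup.normalizer (Q : Set G) := by
      rw [Subgroup.mem_normalizer_iff]
      intro x
      have h1 := fun (hx : x ∈ (P : Subgroup G)) =>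
        Subgroup.mem_normalizer_iff.mp hn ⟨x, hx⟩
      simp only [Subgroup.mem_subgroupOf, Subgroup.coe_mul, Subgroup.coe_inv] at h1
      refine ⟨fun hx => (h1 (hQP hx)).mp hx, fun hx => ?_⟩
      have hxP : x ∈ (P : Subgroup G) := by
        have := (P : Subgroup G).mul_mem ((P : Subgroup G).mul_mem ((P : Subgroup G).inv_mem n.2)
          (hQP hx)) n.2
        simpa [mul_assoc] using this
      exact (h1 hxP).mpr hx
    have hord : ∃ k : ℕ, orderOf (n : G) = p ^ k := by
      obtain ⟨k, hk⟩ := (IsPGroup.iff_orderOf.mp P.2) n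
      exact ⟨k, by rw [Subgroup.orderOf_coe, hk]⟩
    -- p-subgroup of C containing Q, hence equal to Q
    have hsup : IsPGroup p ↥((P : Subgroup G) ⊓ C) := P.2.to_le inf_le_left
    have hQle : Q ≤ (P : Subgroup G) ⊓ C := le_inf hQP hQC
    obtain ⟨S, hS⟩ := (hsup.of_equiv
      (Subgroup.subgroupOfEquivOfLe (inf_le_right (a := (P : Subgroup G)) (b := C))).symm).exists_le_sylow
    have hRS : (R : Subgroup C) = (S : Subgroup C) := by
      refine R.3 S.2 (fun x hx => hS ?_) |>.symm
      have : ((x : C) : G) ∈ Q := by rw [← hRQ]; exact ⟨x, hx, rfl⟩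
      exact Subgroup.mem_subgroupOf.mpr (hQle this)
    have hmem : (⟨(n : G), hNC _ hnN hord⟩ : C) ∈ (S : Subgroup C) :=
      hS (Subgroup.mem_subgroupOf.mpr ⟨n.2, hNC _ hnN hord⟩)
    rw [← hRS] at hmem
    exact hnQ (Subgroup.mem_subgroupOf.mpr (hRQ ▸ ⟨_, hmem, rfl⟩))
  exact ⟨P, hPQ ▸ hQ1, fun x hx => hQinv x (hPQ ▸ hx)⟩

theorem sylow_commutative [Finite G] {p : ℕ} [Fact p.Prime] {a : G} (ha : a * a = 1)
    {P : Sylow p G} (h : ∀ x ∈ (P : Subgroup G), a * x * a = x⁻¹) (Q : Sylow p G) :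
    IsMulCommutative ↥(Q : Subgroup G) := by
  have hP : ∀ x y : (P : Subgroup G), x * y = y * x := by
    intro x y
    have h1 : ((x : G) * y)⁻¹ = (x : G)⁻¹ * (y : G)⁻¹ := by
      rw [← h x x.2, ← h y y.2, ← h _ ((P : Subgroup G).mul_mem x.2 y.2)]
      calc a * ((x : G) * y) * a = a * x * (a * a) * y * a := by rw [ha]; group
        _ = _ := by group
    rw [← mul_inv_rev, inv_inj] at h1
    exact Subtype.ext h1
  exact ⟨⟨fun x y => (Sylow.equiv Q P).injective (by rw [map_mul, map_mul, hP])⟩⟩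

end Cfsg.Agent.ClassSum
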