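import Cfsg.Agent.Lib.ClassSum.Basic
import Cfsg.Agent.Lib.CT.Brauer

/-!
# The indicator of p-elements

A multiple prime to `p` of the indicator of the p-elements is a generalized character.
-/

namespace Cfsg.Agent.ClassSum

open scoped ComplexConjugate
open Cfsg.Agent

universe u

variable {G : Type u} [Group G] [Fintype G]

theorem isGen_pElt (p : ℕ) [hp : Fact p.Prime] :
    IsGeneralizedCharacter G (fun g =>
      ((Nat.card G / p ^ (Nat.card G).factorization p : ℕ) : ℂ) * (pElt p G g : ℂ)) := by
  classical
  set m := Nat.card G / p ^ (Nat.card G).factorization p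
  refine CT.isGen_of_restrict_elementary (fun g h => ?_) fun E q hq hE => ?_
  · simp only [pElt_isClassWeight p g h]
  · haveI := CT.isNilpotent_of_isElementary hq hE
    obtain ⟨P⟩ : Nonempty (Sylow p E) := inferInstance
    have hnorm : (P : Subgroup E).Normal := by
      exact P.normal_of_normalizerCondition normalizerCondition_of_isNilpotent
    haveI := Sylow.unique_of_normal P hnorm
    have hiff : ∀ e : E, e ∈ (P : Subgroup E) ↔ ∃ k : ℕ, orderOf (e : G) = p ^ k := by
      intro e
      rw [Subgroup.orderOf_coe]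
      constructor
      · intro he
        obtain ⟨k, hk⟩ := IsPGroup.iff_orderOf.mp P.2 ⟨e, he⟩
        exact ⟨k, by simpa using hk⟩
      · intro he
        obtain ⟨Q, hQ⟩ := ((isPGroup_zpowers_iff e).mpr he).exists_le_sylow
        rw [Subsingleton.elim Q P] at hQ
        exact hQ (Subgroup.mem_zpowers e)
    obtain ⟨c, hc⟩ : (P : Subgroup E).index ∣ m := by
      have h1 : (P : Subgroup E).index ∣ Nat.card G :=
        (Subgroup.index_dvd_card _).trans (Subgroup.card_subgroup_dvd_card E)
      have h2 : ¬ p ∣ (P : Subgroup E).index := P.not_dvd_index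
      rw [← Nat.ordProj_mul_ordCompl_eq_self (Nat.card G) p] at h1
      exact ((hp.out.coprime_iff_not_dvd.mpr h2).symm.pow_right _).dvd_of_dvd_mul_left h1
    have := CT.isGen_zsmul (c : ℤ) (CT.isGen_indFun (P : Subgroup E)
      (CT.isGen_of_isCharacter (CT.isCharacter_one (G := (P : Subgroup E)))))
    convert this using 1
    funext e
    simp only [Pi.smul_apply, zsmul_eq_mul, Pi.intCast_apply, Pi.mul_apply]
    by_cases he : e ∈ (P : Subgroup E)
    · have h2 : indFun (P : Subgroup E) (fun _ : ↥(P : Subgroup E) => (1 : ℂ)) e =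
          ((P : Subgroup E).index : ℂ) := by
        have hP0 : (Fintype.card (P : Subgroup E) : ℂ) ≠ 0 :=
          Nat.cast_ne_zero.mpr Fintype.card_ne_zero
        have h3 : ∀ x : E, extendByZero (P : Subgroup E) (fun _ : ↥(P : Subgroup E) => (1 : ℂ)) (x⁻¹ * e * x)
            = 1 := fun x => by
          rw [CT.extendByZero_mem _ _ (by simpa [mul_assoc] using hnorm.conj_mem e he x⁻¹)]
        simp only [indFun, h3]
        simp only [Finset.sum_const, Finset.card_univ, nsmul_eq_mul, mul_one]
        field_simp
        rw [← Nat.card_eq_fintype_card]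
        exact_mod_cast ((P : Subgroup E).card_mul_index).symm
      rw [h2, hc, pElt, if_pos ((hiff e).mp he)]
      push_cast
      ring
    · have h2 : indFun (P : Subgroup E) (fun _ : ↥(P : Subgroup E) => (1 : ℂ)) e = 0 := by
        have h3 : ∀ x : E, extendByZero (P : Subgroup E) (fun _ : ↥(P : Subgroup E) => (1 : ℂ)) (x⁻¹ * e * x)
            = 0 := fun x => by
          rw [CT.extendByZero_not_mem _ _ fun h => he (by
            simpa [mul_assoc] using hnorm.conj_mem _ h x)]
        simp [indFun, h3]
      rw [h2, pElt, if_neg (mt (hiff e).mpr he)]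
      simp

/-- The sum of a character over the p-elements is divisible by the p-part of the group order. -/
theorem exists_sum_pElt (p : ℕ) [Fact p.Prime] (χ : IrrCharacter G) :
    ∃ n : ℤ, ((Nat.card G / p ^ (Nat.card G).factorization p : ℕ) : ℂ) *
      ((∑ g, (pElt p G g : ℂ) * (χ : G → ℂ) g) / (Nat.card G : ℂ)) = (n : ℂ) := by
  obtain ⟨n, hn⟩ := CT.isGen_inner_int (CT.isGen_of_isCharacter (CT.isCharacter_of_isIrr χ.2))
    (isGen_pElt (G := G) p)
  refine ⟨n, ?_⟩
  rw [← hn, classInner, div_eq_inv_mul, ← mul_assoc, mul_comm _ ((Nat.card G : ℂ))⁻¹, mul_assoc,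
    Finset.mul_sum]
  congr 1
  refine Finset.sum_congr rfl fun g _ => ?_
  simp
  ring

end Cfsg.Agent.ClassSum
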