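import Cfsg.Agent.S4835
import Cfsg.Agent.Lib.Basics.Cores
import Cfsg.Agent.Lib.Basics.SchurZassenhaus
import Cfsg.Agent.Lib.Invol.BaerSuzuki
import Cfsg.Agent.Lib.Invol.Dihedral
import Mathlib.GroupTheory.SchurZassenhaus

/-!
# Groups with a character nonzero on exactly two classes: structure
-/

namespace Cfsg.Agent.TwoClasses

open Cfsg.Agent
open scoped Pointwise

universe u

variable {G : Type u} [Group G] [Finite G]

/-- The data of a character nonzero on exactly two classes with support `N`. -/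
structure Setup (χ : IrrCharacter G) (p : ℕ) (N : Subgroup G) : Prop where
  two : 2 < Nat.card G
  classes : Nat.card {C : ConjClasses G // ∃ g ∈ C.carrier, (χ : G → ℂ) g ≠ 0} = 2
  supp : ∀ g : G, g ∈ N ↔ (χ : G → ℂ) g ≠ 0
  pgroup : IsPGroup p N
  ne_bot : N ≠ ⊥

namespace Setup

variable {χ : IrrCharacter G} {p : ℕ} {N : Subgroup G}

theorem facts [hp : Fact p.Prime] (S : Setup χ p N) :
    (∀ K : Subgroup G, K.Normal → K ≠ ⊥ → N ≤ K) ∧ (∀ a ∈ N, ∀ b ∈ N, a * b = b * a) ∧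
      (∀ a ∈ N, a ^ p = 1) ∧ (∀ x ∈ N, ∀ y ∈ N, x ≠ 1 → y ≠ 1 → IsConj x y) ∧
      (∀ ψ : IrrCharacter G, ψ ≠ χ → ∀ n ∈ N, (ψ : G → ℂ) n = (ψ : G → ℂ) 1) := by
  classical
  haveI := Fintype.ofFinite G
  obtain ⟨N', hn, hne, hmin, ⟨q, hq, hel⟩, hsupp, htrans⟩ := S4835.result S.two χ S.classes
  have e : N' = N := Subgroup.ext fun g => (hsupp g).symm.trans (S.supp g).symm
  subst e
  have hcomm : ∀ a ∈ N', ∀ b ∈ N', a * b = b * a := fun a ha b hb =>
    congrArg Subtype.val (hel.1.is_comm.comm (⟨a, ha⟩ : N') ⟨b, hb⟩)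
  obtain ⟨a, ha, ha1⟩ := N'.bot_or_exists_ne_one.resolve_left hne
  have hqp : q = p := by
    obtain ⟨k, hk⟩ := S.pgroup ⟨a, ha⟩
    have h1 : orderOf a ∣ p ^ k := orderOf_dvd_of_pow_eq_one (congrArg Subtype.val hk :)
    have h2 : orderOf a = q := (Nat.dvd_prime hq).mp (orderOf_dvd_of_pow_eq_one (hel.2 a ha))
      |>.resolve_left fun h => ha1 (orderOf_eq_one_iff.mp h)
    exact (Nat.prime_dvd_prime_iff_eq hq hp.out).mp (hq.dvd_of_dvd_pow (h2 ▸ h1))
  refine ⟨hmin, hcomm, hqp ▸ hel.2, fun x hx y hy hx1 hy1 => ?_, fun ψ hψ n hn' => ?_⟩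
  · exact isConj_iff.mpr (htrans x hx y hy hx1 hy1)
  · by_cases h1 : n = 1
    · rw [h1]
    obtain ⟨g, hg1, hg, -, htriv⟩ := S4836.two_classes S.two χ S.classes
    obtain ⟨c, hc⟩ := htrans g ((S.supp g).mpr hg) n hn' hg1 h1
    rw [← hc, CT.isClassFunction_of_isIrr ψ.2 g c]
    exact htriv ψ hψ

/-- A coset of `N` outside `N` lies in one conjugacy class. -/
theorem coset_conj [Fact p.Prime] (S : Setup χ p N) {x n : G} (hx : x ∉ N) (hn : n ∈ N) :
    IsConj x (n * x) := by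
  classical
  haveI := Fintype.ofFinite G
  refine CT.isConj_iff_forall_irr.mpr fun ψ => ?_
  by_cases hψ : ψ = χ
  · subst hψ
    have h1 : (ψ : G → ℂ) x = 0 := by
      by_contra h
      exact hx ((S.supp x).mpr h)
    have h2 : (ψ : G → ℂ) (n * x) = 0 := by
      by_contra h
      exact hx (by simpa using N.mul_mem (N.inv_mem hn) ((S.supp _).mpr h))
    rw [h1, h2]
  · rw [CT.isClassFunction_mul_comm (CT.isClassFunction_of_isIrr ψ.2)]
    exact (((CT.mem_kerChar_iff (CT.isCharacter_of_isIrr ψ.2)).mpr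
      (S.facts.2.2.2.2 ψ hψ n hn)) x).symm

theorem normal (_ : Fact p.Prime) (S : Setup χ p N) : N.Normal := ⟨fun n hn g => by
  rw [S.supp] at hn ⊢
  rwa [CT.isClassFunction_of_isIrr χ.2 n g]⟩

theorem centralizer_index [Fact p.Prime] (S : Setup χ p N) {g : G} (hg : g ∈ N) (hg1 : g ≠ 1) :
    (Subgroup.centralizer ({g} : Set G)).index + 1 = Nat.card N := by
  classical
  haveI := S.normal inferInstance
  haveI := Fintype.ofFinite G
  rw [← CT.card_conj_class g]
  have e : {x : G // IsConj g x} ≃ {x : N // x ≠ 1} :=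
    { toFun := fun x => ⟨⟨x.1, by
          obtain ⟨c, hc⟩ := isConj_iff.mp x.2
          exact hc ▸ Subgroup.Normal.conj_mem inferInstance g hg c⟩, fun h => hg1 (by
          have h' : x.1 = 1 := congrArg Subtype.val h
          exact isConj_one_left.mp (h' ▸ x.2))⟩
      invFun := fun x => ⟨x.1, S.facts.2.2.2.1 g hg x.1 x.1.2 hg1 fun h => x.2 (Subtype.ext h)⟩
      left_inv := fun _ => rfl
      right_inv := fun _ => rfl }
  rw [Nat.card_congr e, Nat.card_eq_fintype_card, Nat.card_eq_fintype_card,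
    Fintype.card_subtype_compl, Fintype.card_subtype_eq]
  have : 0 < Fintype.card N := Fintype.card_pos
  omega

theorem centralizer_pgroup [hp : Fact p.Prime] (S : Setup χ p N) {g : G} (hg : g ∈ N)
    (hg1 : g ≠ 1) : IsPGroup p (Subgroup.centralizer ({g} : Set G)) := by
  obtain ⟨-, -, hexp, -, -⟩ := S.facts
  rw [IsPGroup.iff_card]
  refine ⟨(Nat.card (Subgroup.centralizer ({g} : Set G))).primeFactorsList.length,
    Nat.eq_prime_pow_of_unique_prime_dvd Nat.card_pos.ne' ?_⟩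
  intro q hq hqd
  by_contra hne
  haveI := Fact.mk hq
  obtain ⟨⟨h, hh⟩, hord⟩ := exists_prime_orderOf_dvd_card' q hqd
  rw [Subgroup.orderOf_mk] at hord
  have hhN : h ∉ N := fun hN' => by
    have := orderOf_dvd_of_pow_eq_one (hexp h hN')
    rw [hord] at this
    exact hne ((Nat.prime_dvd_prime_iff_eq hq hp.out).mp this)
  have hc : Commute g h := (Subgroup.mem_centralizer_singleton_iff.mp hh).symm
  obtain ⟨c, hc'⟩ := isConj_iff.mp (S.coset_conj hhN hg)
  have h1 : orderOf (g * h) = q := by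
    rw [← hc', ← MulAut.conj_apply, MulEquiv.orderOf_eq, hord]
  have h2 : orderOf g = p := orderOf_eq_prime (hexp g hg) hg1
  have h3 : orderOf (g * h) = p * q := by
    rw [hc.orderOf_mul_eq_mul_orderOf_of_coprime
      (by rw [h2, hord]; exact (Nat.coprime_primes hp.out hq).mpr (Ne.symm hne)), h2, hord]
  have h4 : 1 * q = p * q := by rw [one_mul, ← h3, h1]
  exact hp.out.one_lt.ne (Nat.eq_of_mul_eq_mul_right hq.pos h4)

theorem not_dvd_index [hp : Fact p.Prime] (S : Setup χ p N) {g : G} (hg : g ∈ N) (hg1 : g ≠ 1) :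
    ¬ p ∣ (Subgroup.centralizer ({g} : Set G)).index := by
  intro h
  have h2 : p ∣ Nat.card N := by
    obtain ⟨k, hk⟩ := S.pgroup.exists_card_eq
    rcases Nat.eq_zero_or_pos k with rfl | hk'
    · exact absurd (Subgroup.eq_bot_of_card_eq _ (by rw [hk, pow_zero])) S.ne_bot
    · exact hk ▸ dvd_pow_self p hk'.ne'
  rw [← S.centralizer_index hg hg1] at h2
  exact hp.out.not_dvd_one ((Nat.dvd_add_right h).mp h2)

theorem centralizer_sylow [Fact p.Prime] (S : Setup χ p N) {g : G} (hg : g ∈ N) (hg1 : g ≠ 1) :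
    ∃ P : Sylow p G, Subgroup.centralizer ({g} : Set G) = P :=
  ⟨(S.centralizer_pgroup hg hg1).toSylow (S.not_dvd_index hg hg1), rfl⟩

theorem centralizer_normal_pgroup [Fact p.Prime] (S : Setup χ p N) :
    IsPGroup p (Subgroup.centralizer (N : Set G)) := by
  obtain ⟨g, hg, hg1⟩ := N.bot_or_exists_ne_one.resolve_left S.ne_bot
  exact (S.centralizer_pgroup hg hg1).to_le (Subgroup.centralizer_le (Set.singleton_subset_iff.mpr hg))

theorem centralizer_le [Fact p.Prime] (S : Setup χ p N) (hO : N = Cfsg.pCore p G) :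
    Subgroup.centralizer (N : Set G) ≤ N := by
  haveI := S.normal inferInstance
  haveI : (Subgroup.centralizer (N : Set G)).Normal := Subgroup.normal_centralizer
  exact (Basics.le_pCore S.centralizer_normal_pgroup).trans hO.ge

/-- Odd case: the centralizer of an involution is a complement of order prime to `p`. -/
theorem not_dvd_index_of_odd [hp : Fact p.Prime] (S : Setup χ p N) (hp2 : p ≠ 2)
    (hO : N = Cfsg.pCore p G) : ¬ p ∣ N.index := by
  classical
  haveI := Fintype.ofFinite G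
  haveI := S.normal inferInstance
  obtain ⟨-, hcomm, hexp, -, -⟩ := S.facts
  obtain ⟨g, hg, hg1⟩ := N.bot_or_exists_ne_one.resolve_left S.ne_bot
  have hC := S.centralizer_le hO
  have hodd : Odd (Nat.card N) := by
    obtain ⟨k, hk⟩ := S.pgroup.exists_card_eq
    exact hk ▸ (hp.out.odd_of_ne_two hp2).pow
  have h2G : 2 ∣ Nat.card G := by
    obtain ⟨m, hm⟩ := hodd
    have h := S.centralizer_index hg hg1
    rw [hm] at h
    exact (Dvd.intro m (show 2 * m = (Subgroup.centralizer ({g} : Set G)).index by omega)).trans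
      (Subgroup.index_dvd_card _)
  obtain ⟨t, ht⟩ := exists_prime_orderOf_dvd_card' (G := G) 2 h2G
  have ht2 : t * t = 1 := Invol.mul_self_of_orderOf_two ht
  have htN : t ∉ N := fun h => by
    have := orderOf_dvd_of_pow_eq_one (hexp t h)
    rw [ht] at this
    exact hp2 ((Nat.prime_dvd_prime_iff_eq Nat.prime_two hp.out).mp this).symm
  have hinv : ∀ a ∈ N, t * a * t⁻¹ = a⁻¹ := by
    intro a ha
    have hta : t * a * t⁻¹ ∈ N := Subgroup.Normal.conj_mem inferInstance a ha t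
    by_contra hne
    have hb1 : t * a * t⁻¹ * a ≠ 1 := fun h => hne (eq_inv_of_mul_eq_one_left h)
    have ht' : t ∈ Subgroup.centralizer ({t * a * t⁻¹ * a} : Set G) := by
      rw [Subgroup.mem_centralizer_singleton_iff]
      calc t * (t * a * t⁻¹ * a) = (t * t) * a * t⁻¹ * a := by group
        _ = (a * (t * a * t⁻¹)) * t := by
            rw [ht2, Invol.inv_of_orderOf_two ht, one_mul]
            calc a * t * a = a * t * a * (t * t) := by rw [ht2, mul_one]
              _ = _ := by group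
        _ = _ := by rw [hcomm a ha _ hta]
    obtain ⟨k, hk⟩ := S.centralizer_pgroup (N.mul_mem hta ha) hb1 ⟨t, ht'⟩
    have h1 : t ^ p ^ k = 1 := congrArg Subtype.val hk
    have h2 := orderOf_dvd_of_pow_eq_one h1
    rw [ht] at h2
    exact hp2 ((Nat.prime_dvd_prime_iff_eq Nat.prime_two hp.out).mp
      (Nat.prime_two.dvd_of_dvd_pow h2)).symm
  set H := Subgroup.centralizer ({t} : Set G) with hH
  have hHN : ∀ a ∈ N, a ∈ H → a = 1 := by
    intro a ha haH
    have h1 : t * a * t⁻¹ = a := by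
      rw [mul_inv_eq_iff_eq_mul]
      exact (Subgroup.mem_centralizer_singleton_iff.mp haH).symm
    have h2 : a * a = 1 := by
      nth_rw 1 [← h1]
      rw [hinv a ha, inv_mul_cancel]
    by_contra hne
    have h3 := orderOf_dvd_of_pow_eq_one (hexp a ha)
    rw [Invol.orderOf_two_of_mul_self h2 hne] at h3
    exact hp2 ((Nat.prime_dvd_prime_iff_eq Nat.prime_two hp.out).mp h3).symm
  have hdec : ∀ y : G, ∃ w ∈ N, w⁻¹ * y ∈ H := by
    intro y
    set v := y * t * y⁻¹ * t⁻¹ with hv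
    have hvN : v ∈ N := by
      refine hC (Subgroup.mem_centralizer_iff.mpr fun a ha => ?_)
      have e1 : t⁻¹ * a * t = a⁻¹ := Invol.inverts_symm (hinv a ha)
      have hb : y⁻¹ * a⁻¹ * y ∈ N := by
        simpa using Subgroup.Normal.conj_mem inferInstance a⁻¹ (N.inv_mem ha) y⁻¹
      have e3 := hinv _ hb
      have e2 : v * a * v⁻¹ = a :=
        calc v * a * v⁻¹ = y * (t * (y⁻¹ * (t⁻¹ * a * t) * y) * t⁻¹) * y⁻¹ := by rw [hv]; group
          _ = y * (y⁻¹ * a⁻¹ * y)⁻¹ * y⁻¹ := by rw [e1, e3]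
          _ = a := by group
      calc a * v = (v * a * v⁻¹) * v := by rw [e2]
        _ = v * a := by group
    obtain ⟨k, hk⟩ := hp.out.odd_of_ne_two hp2
    refine ⟨v ^ (k + 1), N.pow_mem hvN _, ?_⟩
    set w := v ^ (k + 1) with hw
    have hw2 : w * w = v := by
      rw [hw, ← pow_add, show k + 1 + (k + 1) = p + 1 by omega, pow_succ, hexp v hvN, one_mul]
    have e4 := hinv w (N.pow_mem hvN _)
    have e5 : w * t * w⁻¹ = y * t * y⁻¹ :=
      calc w * t * w⁻¹ = w * (t * w⁻¹ * t⁻¹) * t := by group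
        _ = w * (t * w * t⁻¹)⁻¹ * t := by group
        _ = w * w * t := by rw [e4, inv_inv]
        _ = y * t * y⁻¹ := by rw [hw2, hv]; group
    rw [hH, Subgroup.mem_centralizer_singleton_iff]
    calc w⁻¹ * y * t = w⁻¹ * (y * t * y⁻¹) * y := by group
      _ = t * (w⁻¹ * y) := by rw [← e5]; group
  intro hdvd
  have hcompl : Subgroup.IsComplement' N H := by
    refine Subgroup.isComplement'_of_disjoint_and_mul_eq_univ ?_ ?_
    · rw [Subgroup.disjoint_def]
      exact fun {x} hx hx' => hHN x hx hx'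
    · refine Set.eq_univ_of_forall fun y => ?_
      obtain ⟨w, hw, hy⟩ := hdec y
      exact ⟨w, hw, w⁻¹ * y, hy, by simp⟩
  have hcardH : Nat.card H = N.index := by
    have h := hcompl.card_mul
    rw [← N.card_mul_index] at h
    exact Nat.eq_of_mul_eq_mul_left Nat.card_pos h
  obtain ⟨⟨x, hxH⟩, hxord⟩ := exists_prime_orderOf_dvd_card' p (hcardH ▸ hdvd)
  rw [Subgroup.orderOf_mk] at hxord
  have hxN : x ∉ N := fun h => by
    rw [hHN x h hxH, orderOf_one] at hxord
    exact hp.out.one_lt.ne hxord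
  let φ : N → N := fun w => ⟨(w : G) * (x * (w : G)⁻¹ * x⁻¹),
    N.mul_mem w.2 (Subgroup.Normal.conj_mem inferInstance _ (N.inv_mem w.2) x)⟩
  have hsurj : Function.Surjective φ := by
    rintro ⟨a, ha⟩
    obtain ⟨c, hc⟩ := isConj_iff.mp (S.coset_conj hxN ha)
    obtain ⟨w, hw, hh⟩ := hdec c
    refine ⟨⟨w, hw⟩, Subtype.ext ?_⟩
    show w * (x * w⁻¹ * x⁻¹) = a
    set h := w⁻¹ * c with hhd
    have e6 : h * x * h⁻¹ * x⁻¹ = w⁻¹ * a * (x * w * x⁻¹) := by
      calc h * x * h⁻¹ * x⁻¹ = w⁻¹ * (c * x * c⁻¹) * w * x⁻¹ := by rw [hhd]; group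
        _ = _ := by rw [hc]; group
    have h7 : h * x * h⁻¹ * x⁻¹ = 1 := hHN _
      (e6 ▸ N.mul_mem (N.mul_mem (N.inv_mem hw) ha) (Subgroup.Normal.conj_mem inferInstance w hw x))
      (H.mul_mem (H.mul_mem (H.mul_mem hh hxH) (H.inv_mem hh)) (H.inv_mem hxH))
    rw [e6] at h7
    calc w * (x * w⁻¹ * x⁻¹) = w * (w⁻¹ * a * (x * w * x⁻¹)) * (x * w⁻¹ * x⁻¹) := by
          rw [h7, mul_one]
      _ = a := by group
  have hinj : Function.Injective φ := Finite.injective_iff_surjective.mpr hsurj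
  -- a fixed point of x on N
  let P := Subgroup.zpowers (ConjAct.toConjAct x)
  have hP : IsPGroup p P := IsPGroup.of_card (n := 1) (by
    rw [Nat.card_zpowers, pow_one, MulEquiv.orderOf_eq, hxord])
  have hpN : p ∣ Nat.card N := by
    obtain ⟨k, hk⟩ := S.pgroup.exists_card_eq
    rcases Nat.eq_zero_or_pos k with rfl | hk'
    · exact absurd (Subgroup.eq_bot_of_card_eq _ (by rw [hk, pow_zero])) S.ne_bot
    · exact hk ▸ dvd_pow_self p hk'.ne'
  have h1 : (1 : N) ∈ MulAction.fixedPoints P N := fun c => smul_one (c : ConjAct G)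
  obtain ⟨b, hb, hb1⟩ := hP.exists_fixed_point_of_prime_dvd_card_of_fixed_point N hpN h1
  have hxb : x * (b : G) * x⁻¹ = b := by
    have h := congrArg Subtype.val (hb ⟨ConjAct.toConjAct x, Subgroup.mem_zpowers _⟩)
    rw [Subgroup.smul_def, ConjAct.Subgroup.val_conj_smul, ConjAct.smul_def] at h
    simpa using h
  have e8 : x * (b : G)⁻¹ * x⁻¹ = (x * (b : G) * x⁻¹)⁻¹ := by group
  rw [hxb] at e8
  exact hb1 (hinj (show φ 1 = φ b from Subtype.ext (by simp [φ, e8])))

/-- Even case. -/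
theorem not_dvd_index_of_two [Fact (Nat.Prime 2)] (S : Setup χ 2 N) (hO : N = Cfsg.pCore 2 G) :
    ¬ 2 ∣ N.index := by
  classical
  haveI := S.normal inferInstance
  intro hdvd
  obtain ⟨hmin, hcomm, hexp, -, -⟩ := S.facts
  rw [Subgroup.index_eq_card] at hdvd
  obtain ⟨q₀, hq₀⟩ := exists_prime_orderOf_dvd_card' (G := G ⧸ N) 2 hdvd
  have hO2 : Cfsg.pCore 2 (G ⧸ N) = ⊥ := by
    subst hO
    exact Basics.pCore_quotient_eq_bot 2
  obtain ⟨s, hs⟩ : ∃ g : G ⧸ N,
      ¬ IsPGroup 2 ↥(Subgroup.closure ({q₀, g * q₀ * g⁻¹} : Set (G ⧸ N))) := by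
    by_contra hcon
    push Not at hcon
    obtain ⟨M, hM, hMp, hqM⟩ := Invol.baerSuzuki_element (p := 2) hcon
    have h := Basics.le_pCore (N := M) hMp hqM
    rw [hO2, Subgroup.mem_bot] at h
    rw [h, orderOf_one] at hq₀
    omega
  have hs2 : orderOf (s * q₀ * s⁻¹) = 2 := by rw [Invol.orderOf_conj, hq₀]
  set d := q₀ * (s * q₀ * s⁻¹) with hd
  obtain ⟨r, hr, hrd, hr2⟩ : ∃ r : ℕ, r.Prime ∧ r ∣ orderOf d ∧ r ≠ 2 := by
    by_contra hcon
    push Not at hcon
    obtain ⟨e⟩ := Invol.nonempty_dihedralEquiv_pair hq₀ hs2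
    refine hs ?_
    have hcard : Nat.card ↥(Subgroup.closure ({q₀, s * q₀ * s⁻¹} : Set (G ⧸ N))) =
        2 * orderOf d := by
      rw [← Nat.card_congr e.toEquiv, DihedralGroup.nat_card]
    refine IsPGroup.of_card (n := (orderOf d).primeFactorsList.length + 1) ?_
    rw [hcard, pow_succ', ← Nat.eq_prime_pow_of_unique_prime_dvd (orderOf_pos d).ne'
      (fun {r} hr hrd => hcon r hr hrd)]
  haveI := Fact.mk hr
  set y := d ^ (orderOf d / r) with hy
  have hyord : orderOf y = r := orderOf_pow_orderOf_div (orderOf_pos d).ne' hrd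
  have hinvy : q₀ * y * q₀⁻¹ = y⁻¹ := by
    rw [hy, ← conj_pow, Invol.conj_mul_eq_inv (Invol.mul_self_of_orderOf_two hq₀)
      (Invol.mul_self_of_orderOf_two hs2), ← inv_pow]
  obtain ⟨x, rfl⟩ := QuotientGroup.mk_surjective q₀
  set L := (Subgroup.zpowers y).comap (QuotientGroup.mk' N) with hL
  have hLcard : Nat.card L = Nat.card N * r := by
    rw [hL, Basics.card_comap_mk', Nat.card_zpowers, hyord]
  obtain ⟨kk, hkk⟩ := S.pgroup.exists_card_eq
  have hcop : (Nat.card N).Coprime r := by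
    rw [hkk]
    exact Nat.Coprime.pow_left _ ((Nat.coprime_primes Nat.prime_two hr).mpr (Ne.symm hr2))
  obtain ⟨⟨t, htL⟩, htord⟩ := exists_prime_orderOf_dvd_card' r
    (hLcard ▸ dvd_mul_left r (Nat.card N) : r ∣ Nat.card L)
  rw [Subgroup.orderOf_mk] at htord
  set Q := Subgroup.zpowers t with hQ
  have htN : t ∉ N := fun h => by
    have := orderOf_dvd_of_pow_eq_one (hexp t h)
    rw [htord] at this
    exact hr2 ((Nat.prime_dvd_prime_iff_eq hr Nat.prime_two).mp this)
  have hQN : ∀ a ∈ Q, a ∈ N → a = 1 := by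
    intro a haQ haN
    have h1 : orderOf a ∣ Nat.gcd 2 r := Nat.dvd_gcd (orderOf_dvd_of_pow_eq_one (hexp a haN))
      (htord ▸ orderOf_dvd_of_mem_zpowers haQ)
    rw [(Nat.coprime_primes Nat.prime_two hr).mpr (Ne.symm hr2)] at h1
    exact orderOf_eq_one_iff.mp (Nat.dvd_one.mp h1)
  have hQcard : Nat.card Q = r := by rw [hQ, Nat.card_zpowers, htord]
  have hsup : L = N ⊔ Q := by
    refine (Subgroup.eq_of_le_of_card_ge ?_ ?_).symm
    · refine sup_le (fun a ha => ?_) (Subgroup.zpowers_le.mpr htL)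
      rw [hL, Subgroup.mem_comap, QuotientGroup.mk'_apply, (QuotientGroup.eq_one_iff a).mpr ha]
      exact one_mem _
    · rw [hLcard]
      have h1 := Subgroup.card_dvd_of_le (le_sup_left : N ≤ N ⊔ Q)
      have h2 := Subgroup.card_dvd_of_le (le_sup_right : Q ≤ N ⊔ Q)
      rw [hQcard] at h2
      exact Nat.le_of_dvd Nat.card_pos (hcop.mul_dvd_of_dvd_of_dvd h1 h2)
  have hxL : ∀ a ∈ L, x * a * x⁻¹ ∈ L := by
    intro a ha
    rw [hL, Subgroup.mem_comap, QuotientGroup.mk'_apply] at ha ⊢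
    obtain ⟨i, hi⟩ := Subgroup.mem_zpowers_iff.mp ha
    refine Subgroup.mem_zpowers_iff.mpr ⟨-i, ?_⟩
    rw [QuotientGroup.mk_mul, QuotientGroup.mk_mul, QuotientGroup.mk_inv, ← hi, ← conj_zpow,
      hinvy, inv_zpow, zpow_neg]
  obtain ⟨w, hw, hwQ⟩ := Basics.exists_conj_eq_of_coprime N Q
    (Subgroup.zpowers (x * t * x⁻¹))
    ((Subgroup.normalizer_eq_top (H := N)).symm ▸ le_top)
    (hQcard.symm ▸ hcop) (hsup ▸ Subgroup.zpowers_le.mpr (hxL t htL))
    (by rw [Nat.card_zpowers, Invol.orderOf_conj, ← Nat.card_zpowers])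
    (Or.inl (haveI := S.pgroup.isNilpotent; inferInstance))
  set z := w⁻¹ * x with hz
  have hzt : z * t * z⁻¹ ∈ Q := by
    have h1 : x * t * x⁻¹ ∈ MulAut.conj w • Q := hwQ.symm ▸ Subgroup.mem_zpowers _
    obtain ⟨a, ha, hae⟩ := Subgroup.mem_map.mp h1
    change w * a * w⁻¹ = x * t * x⁻¹ at hae
    convert ha using 1
    calc z * t * z⁻¹ = w⁻¹ * (x * t * x⁻¹) * w := by rw [hz]; group
      _ = a := by rw [← hae]; group
  have hzN : z ∉ N := fun h => by
    have hxN : x ∈ N := by simpa [hz] using N.mul_mem hw h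
    rw [(QuotientGroup.eq_one_iff x).mpr hxN, orderOf_one] at hq₀
    omega
  have hz2 : z * z ∈ N := by
    rw [← QuotientGroup.eq_one_iff, hz]
    simp only [QuotientGroup.mk_mul, QuotientGroup.mk_inv, (QuotientGroup.eq_one_iff w).mpr hw,
      inv_one, one_mul]
    exact Invol.mul_self_of_orderOf_two hq₀
  have hz1 : z * z = 1 := by
    by_contra hne
    have hzQ : ∀ a ∈ Q, z * a * z⁻¹ ∈ Q := by
      intro a ha
      obtain ⟨i, rfl⟩ := Subgroup.mem_zpowers_iff.mp ha
      rw [← conj_zpow]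
      exact Q.zpow_mem hzt i
    have h1 : (z * z) * t * (z * z)⁻¹ * t⁻¹ = 1 := by
      refine hQN _ (Q.mul_mem ?_ (Q.inv_mem (Subgroup.mem_zpowers t))) ?_
      · rw [show (z * z) * t * (z * z)⁻¹ = z * (z * t * z⁻¹) * z⁻¹ by group]
        exact hzQ _ hzt
      · rw [show (z * z) * t * (z * z)⁻¹ * t⁻¹ = (z * z) * (t * (z * z)⁻¹ * t⁻¹) by group]
        exact N.mul_mem hz2 (Subgroup.Normal.conj_mem inferInstance _ (N.inv_mem hz2) t)
    have h2 : t ∈ Subgroup.centralizer ({z * z} : Set G) := by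
      rw [Subgroup.mem_centralizer_singleton_iff]
      calc t * (z * z) = (z * z * t * (z * z)⁻¹ * t⁻¹) * t * (z * z) := by rw [h1, one_mul]
        _ = z * z * t := by group
    obtain ⟨k, hk⟩ := S.centralizer_pgroup hz2 hne ⟨t, h2⟩
    have h3 : t ^ 2 ^ k = 1 := congrArg Subtype.val hk
    have h4 := orderOf_dvd_of_pow_eq_one h3
    rw [htord] at h4
    exact hr2 ((Nat.prime_dvd_prime_iff_eq hr Nat.prime_two).mp (hr.dvd_of_dvd_pow h4))
  refine hzN (S.centralizer_le hO (Subgroup.mem_centralizer_iff.mpr fun a ha => ?_))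
  obtain ⟨c, hc⟩ := isConj_iff.mp (S.coset_conj hzN ha)
  have h5 : a * z * (a * z) = 1 := by
    rw [← hc, conj_mul, hz1, mul_one, mul_inv_cancel]
  have ha2 : a * a = 1 := by rw [← sq]; exact hexp a ha
  calc a * z = (a * z)⁻¹ := (inv_eq_of_mul_eq_one_left h5).symm
    _ = z * a := by
        rw [mul_inv_rev, inv_eq_of_mul_eq_one_left hz1, inv_eq_of_mul_eq_one_left ha2]

/-- If `N` is the p-core it is the centralizer of each of its non-identity elements. -/
theorem card_eq [hp : Fact p.Prime] (S : Setup χ p N) (hO : N = Cfsg.pCore p G) :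
    ¬ p ∣ N.index := by
  by_cases h2 : p = 2
  · subst h2
    exact S.not_dvd_index_of_two hO
  · exact S.not_dvd_index_of_odd h2 hO

end Setup

end Cfsg.Agent.TwoClasses
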